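import Cfsg.Agent.H666.Clif.GL
import Cfsg.Agent.H577.GLB.Exc
import Cfsg.Agent.H111.GLB.E1_mg
import Cfsg.Agent.H76.GLB.ProdBlk
import Cfsg.Agent.S0919
import Cfsg.Agent.S0917
import Cfsg.Agent.S0934
import Cfsg.Agent.S4438
import Cfsg.Agent.H662.IndLocal
import Cfsg.Agent.H648.IndexStab
import Cfsg.Agent.H666.GU.GuTower
import Cfsg.Agent.H941.GU.Tow_m3
import Cfsg.Agent.FastGrp
import Cfsg.Agent.Prune
set_option linter.all false
prune_inst 0x7f00000000000000000000000000000000000000000000000000000000000000000000000000000000000000000000000000000000000000000000000000000000000000000000000000000000000000003fffffffffffffffffffffffffffbeffbdffffffff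
open scoped Cfsg.Agent.FastGrp

-- part: H666/GU/Secn
section
/-!
# Elementary abelian sections
-/

set_option autoImplicit false
set_option linter.unusedSectionVars false

open Cfsg

namespace Cfsg.Agent.H666.GU

section

variable {G : Type*} [Group G]

/-- `D` has an elementary abelian section of rank at least `r` -/
def Sec (p r : ℕ) (D : Subgroup G) : Prop :=
  ∃ H K : Subgroup G, H ≤ D ∧ K ≤ H ∧ (∀ h ∈ H, ∀ k ∈ K, h * k * h⁻¹ ∈ K) ∧
    (∀ x ∈ H, ∀ y ∈ H, x * y * (y * x)⁻¹ ∈ K) ∧ (∀ x ∈ H, x ^ p ∈ K) ∧ p ^ r * Nat.card K ≤ Nat.card H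

theorem Sec.mono {p r : ℕ} {D D' : Subgroup G} (h : Sec p r D) (hD : D ≤ D') : Sec p r D' := by
  obtain ⟨H, K, h1, h2⟩ := h
  exact ⟨H, K, h1.trans hD, h2⟩

theorem Sec.map {p r : ℕ} {G' : Type*} [Group G'] {D : Subgroup G} (h : Sec p r D) (f : G →* G')
    (hf : Function.Injective f) : Sec p r (D.map f) := by
  obtain ⟨H, K, h1, h2, h3, h4, h5, h6⟩ := h
  refine ⟨H.map f, K.map f, Subgroup.map_mono h1, Subgroup.map_mono h2, ?_, ?_, ?_, ?_⟩
  · rintro _ ⟨a, ha, rfl⟩ _ ⟨b, hb, rfl⟩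
    exact ⟨a * b * a⁻¹, h3 a ha b hb, by simp only [_root_.map_mul, _root_.map_inv]⟩
  · rintro _ ⟨a, ha, rfl⟩ _ ⟨b, hb, rfl⟩
    exact ⟨a * b * (b * a)⁻¹, h4 a ha b hb, by simp only [_root_.mul_inv_rev, _root_.map_mul, _root_.map_inv]⟩
  · rintro _ ⟨a, ha, rfl⟩
    exact ⟨a ^ p, h5 a ha, by simp⟩
  · rw [← Nat.card_congr (K.equivMapOfInjective f hf).toEquiv, ← Nat.card_congr (H.equivMapOfInjective f hf).toEquiv]
    exact h6

variable [Finite G]

/-- A section bounds the sectional rank from below. -/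
theorem Sec.le {p r s : ℕ} (hp : 1 < p) {D : Subgroup G} (h : Sec p r D) (hs : SectionalPRankLE p s D) : r ≤ s := by
  obtain ⟨H, K, h1, h2, h3, h4, h5, h6⟩ := h
  let H' : Subgroup D := H.subgroupOf D
  let e : H' ≃* H := Subgroup.subgroupOfEquivOfLe h1
  let K' : Subgroup H' := K.comap (D.subtype.comp H'.subtype)
  have hK' : ∀ x : H', x ∈ K' ↔ ((x : D) : G) ∈ K := fun x => Iff.rfl
  have hH' : ∀ x : H', ((x : D) : G) ∈ H := fun x => x.2
  have hn : K'.Normal := ⟨fun n hn g => by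
    rw [hK'] at hn ⊢
    exact h3 _ (hH' g) _ hn⟩
  have hcardK : Nat.card K' = Nat.card K := by
    let f : K' → K := fun x => ⟨((x : H') : D), x.2⟩
    refine Nat.card_congr (Equiv.ofBijective f ⟨?_, ?_⟩)
    · intro x y hxy
      apply Subtype.ext
      apply Subtype.ext
      apply Subtype.ext
      exact congrArg (fun z : K => (z : G)) hxy
    · rintro ⟨k, hk⟩
      exact ⟨⟨⟨⟨k, h1 (h2 hk)⟩, h2 hk⟩, hk⟩, rfl⟩
  have hcardH : Nat.card H' = Nat.card H := Nat.card_congr e.toEquiv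
  refine H666.Clif.card_le_of_section hp hs (H := H') (QuotientGroup.mk' K') (QuotientGroup.mk'_surjective K')
    ?_ ?_ ?_
  · intro x y
    obtain ⟨a, rfl⟩ := QuotientGroup.mk_surjective x
    obtain ⟨b, rfl⟩ := QuotientGroup.mk_surjective y
    rw [← QuotientGroup.mk_mul, ← QuotientGroup.mk_mul, eq_comm, QuotientGroup.eq]
    rw [hK']
    have h7 := h3 _ (H.inv_mem (H.mul_mem (hH' b) (hH' a))) _ (h4 _ (hH' a) _ (hH' b))
    have h8 : (((b * a)⁻¹ * (a * b) : H') : G) = (((b : D) : G) * ((a : D) : G))⁻¹ *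
        (((a : D) : G) * ((b : D) : G) * (((b : D) : G) * ((a : D) : G))⁻¹) *
        (((b : D) : G) * ((a : D) : G))⁻¹⁻¹ := by
      push_cast
      group
    rw [h8]
    exact h7
  · intro x
    obtain ⟨a, rfl⟩ := QuotientGroup.mk_surjective x
    rw [← QuotientGroup.mk_pow, QuotientGroup.eq_one_iff, hK']
    exact h5 _ (hH' a)
  · have h7 : Nat.card H' = Nat.card (H' ⧸ K') * Nat.card K' := Subgroup.card_eq_card_quotient_mul_card_subgroup K'
    rw [hcardH, hcardK] at h7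
    rw [h7] at h6
    exact Nat.le_of_mul_le_mul_right h6 Nat.card_pos

/-- Products of sections. -/
theorem Sec.prod {p r₁ r₂ : ℕ} {X₁ X₂ : Type*} [Group X₁] [Group X₂] [Finite X₁] [Finite X₂] {D₁ : Subgroup X₁}
    {D₂ : Subgroup X₂} (h : Sec p r₁ D₁) (h' : Sec p r₂ D₂) : Sec p (r₁ + r₂) (D₁.prod D₂) := by
  obtain ⟨H, K, h1, h2, h3, h4, h5, h6⟩ := h
  obtain ⟨H', K', h1', h2', h3', h4', h5', h6'⟩ := h'
  refine ⟨H.prod H', K.prod K', Subgroup.prod_mono h1 h1', Subgroup.prod_mono h2 h2', ?_, ?_, ?_, ?_⟩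
  · rintro ⟨a, b⟩ ⟨ha, hb⟩ ⟨c, d⟩ ⟨hc, hd⟩
    exact ⟨h3 a ha c hc, h3' b hb d hd⟩
  · rintro ⟨a, b⟩ ⟨ha, hb⟩ ⟨c, d⟩ ⟨hc, hd⟩
    exact ⟨h4 a ha c hc, h4' b hb d hd⟩
  · rintro ⟨a, b⟩ ⟨ha, hb⟩
    exact ⟨h5 a ha, h5' b hb⟩
  · rw [Nat.card_congr (K.prodEquiv K').toEquiv, Nat.card_congr (H.prodEquiv H').toEquiv, Nat.card_prod,
      Nat.card_prod, pow_add]
    calc p ^ r₁ * p ^ r₂ * (Nat.card K * Nat.card K') = (p ^ r₁ * Nat.card K) * (p ^ r₂ * Nat.card K') := by ring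
      _ ≤ _ := Nat.mul_le_mul h6 h6'

/-- The intersection with a normal subgroup with cyclic quotient. -/
theorem Sec.inf {p r : ℕ} (hp : 0 < p) {D : Subgroup G} (h : Sec p (r + 1) D) (S : Subgroup G) [S.Normal]
    (hcyc : IsCyclic (G ⧸ S)) : Sec p r (D ⊓ S) := by
  obtain ⟨H, K, h1, h2, h3, h4, h5, h6⟩ := h
  have hS : ∀ a : G, ∀ s ∈ S, a * s * a⁻¹ ∈ S := fun a s hs => Subgroup.Normal.conj_mem inferInstance s hs a
  refine ⟨H ⊓ S, K ⊓ S, inf_le_inf_right S h1, inf_le_inf_right S h2, ?_, ?_, ?_, ?_⟩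
  · rintro a ⟨ha, -⟩ b ⟨hb, hb'⟩
    exact ⟨h3 a ha b hb, hS a b hb'⟩
  · rintro a ⟨ha, ha'⟩ b ⟨hb, hb'⟩
    exact ⟨h4 a ha b hb, S.mul_mem (S.mul_mem ha' hb') (S.inv_mem (S.mul_mem hb' ha'))⟩
  · rintro a ⟨ha, ha'⟩
    exact ⟨h5 a ha, S.pow_mem ha' p⟩
  · -- cardinalities
    have hcard : ∀ A : Subgroup G, Nat.card A = Nat.card (A ⊓ S : Subgroup G) * Nat.card (A.map (QuotientGroup.mk' S)) := by
      intro A
      have e1 := Subgroup.card_mul_index (S.subgroupOf A)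
      have e2 : (S.subgroupOf A).index = Nat.card (A.map (QuotientGroup.mk' S)) := by
        have e3 : (QuotientGroup.mk' S).ker.relIndex A = Nat.card (A.map (QuotientGroup.mk' S)) := by
          rw [Subgroup.relIndex_ker]
        rw [QuotientGroup.ker_mk'] at e3
        exact e3
      rw [← e1, e2]
      congr 1
      rw [← Subgroup.inf_subgroupOf_left]
      exact Nat.card_congr (Subgroup.subgroupOfEquivOfLe (inf_le_left : A ⊓ S ≤ A)).toEquiv
    have hq : Nat.card (H.map (QuotientGroup.mk' S)) ≤ p * Nat.card (K.map (QuotientGroup.mk' S)) := by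
      have : IsCyclic (H.map (QuotientGroup.mk' S)) := inferInstance
      obtain ⟨g, hg⟩ := IsCyclic.exists_generator (α := H.map (QuotientGroup.mk' S))
      have e1 : orderOf g = Nat.card (H.map (QuotientGroup.mk' S)) := orderOf_eq_card_of_forall_mem_zpowers hg
      have e2 : (g : G ⧸ S) ^ p ∈ K.map (QuotientGroup.mk' S) := by
        obtain ⟨a, ha, hag⟩ := g.2
        exact ⟨a ^ p, h5 a ha, by rw [map_pow, hag]⟩
      have e3 : orderOf ((g : G ⧸ S) ^ p) ≤ Nat.card (K.map (QuotientGroup.mk' S)) := by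
        rw [← Nat.card_zpowers]
        exact Subgroup.card_le_of_le ((Subgroup.zpowers_le).2 e2)
      have e4 : orderOf ((g : G ⧸ S) ^ p) = orderOf g / Nat.gcd (orderOf g) p := by
        rw [orderOf_pow, Subgroup.orderOf_coe]
      have e5 : orderOf g ≤ p * orderOf ((g : G ⧸ S) ^ p) := by
        rw [e4]
        have e6 : Nat.gcd (orderOf g) p ≤ p := Nat.le_of_dvd hp (Nat.gcd_dvd_right _ _)
        have e7 : Nat.gcd (orderOf g) p * (orderOf g / Nat.gcd (orderOf g) p) = orderOf g :=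
          Nat.mul_div_cancel' (Nat.gcd_dvd_left _ _)
        calc orderOf g = Nat.gcd (orderOf g) p * (orderOf g / Nat.gcd (orderOf g) p) := e7.symm
          _ ≤ p * (orderOf g / Nat.gcd (orderOf g) p) := Nat.mul_le_mul_right _ e6
      rw [← e1]
      exact e5.trans (Nat.mul_le_mul_left _ e3)
    have hH := hcard H
    have hK := hcard K
    have hHpos : 0 < Nat.card (H.map (QuotientGroup.mk' S)) := Nat.card_pos
    have hKpos : 0 < Nat.card (K.map (QuotientGroup.mk' S)) := Nat.card_pos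
    -- `p ^ (r + 1) |K ∩ S| |π K| ≤ |H ∩ S| |π H| ≤ |H ∩ S| p |π K|`
    rw [hH, hK] at h6
    have h7 : p ^ (r + 1) * (Nat.card (K ⊓ S : Subgroup G) * Nat.card (K.map (QuotientGroup.mk' S))) ≤
        Nat.card (H ⊓ S : Subgroup G) * (p * Nat.card (K.map (QuotientGroup.mk' S))) :=
      h6.trans (Nat.mul_le_mul_left _ hq)
    have h8 : (p * Nat.card (K.map (QuotientGroup.mk' S))) * (p ^ r * Nat.card (K ⊓ S : Subgroup G)) ≤
        (p * Nat.card (K.map (QuotientGroup.mk' S))) * Nat.card (H ⊓ S : Subgroup G) := by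
      calc (p * Nat.card (K.map (QuotientGroup.mk' S))) * (p ^ r * Nat.card (K ⊓ S : Subgroup G))
          = p ^ (r + 1) * (Nat.card (K ⊓ S : Subgroup G) * Nat.card (K.map (QuotientGroup.mk' S))) := by ring
        _ ≤ _ := h7
        _ = _ := by ring
    exact Nat.le_of_mul_le_mul_left h8 (Nat.mul_pos hp hKpos)

end

end Cfsg.Agent.H666.GU
end

-- part: H577/GUX/Abs
section
/-!
# HUB S4536 / S4537: the exceptional cases `p = 2`, abstract version

`R : Rz Q M 2 n G`, `L : LinData R S`, `B` a block of `G` whose label `t` involves only one orbit `δ₀`, with multiplicity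
`w = 2, 4, 8`, `B'` a block of `S` below `B` with a defect group of sectional rank at most `s`: `l(B') ≤ 2 ^ s`.
The inputs are properties of the defect groups `D` of `B`:

* `helab` : elementary abelian subgroups of order `2 ^ totW`;
* `hE1` : `w = 2`: `D ∩ S` is not cyclic;
* `hE2` : `w = 4`: the sectional rank of `D ∩ S` is at least 4;
* `hE5` : `w = 4`, `4 ∣ |G : S|`: `D` has a section of rank 6;
* `hE8` : `w = 8`, `4 ∣ |G : S|`: `D` has a section of rank 9.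
-/

set_option autoImplicit false
set_option linter.unusedSectionVars false

open Cfsg
open scoped ComplexConjugate

namespace Cfsg.Agent.H577.GUX

open Cfsg.Agent.H577.GLB Cfsg.Agent.H577.GLB.Std Cfsg.Agent.H614 Cfsg.Agent.H112.GLB
open Cfsg.Agent.H657 Cfsg.Agent.H608.BlockRank Cfsg.Agent.Blocks.Basic Cfsg.Agent.Blocks.Local
open Cfsg.Agent.H666.Clif Cfsg.Agent.H666.GU

universe u

/-- the total weight of a label over one orbit -/
theorem totW_only {Q : ℤ} {M : ℕ} [NeZero M] {p : ℕ} (hQ : IsUnit (Q : ZMod M)) (hQp : (Q : ZMod p) = 1) {m n : ℕ}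
    (t₀ : LabZ Q M m n) (h₀ : POnly M p t₀.t) (δ₀ : ZMod M) (h₁ : ∀ δ, 0 < Std.bsz (t₀.t δ) → SameZ Q M δ₀ δ)
    (hw : 0 < Std.bsz (t₀.t δ₀)) : totW Q M p t₀.t = Std.bsz (t₀.t δ₀) :=
  Exc.totW_onlyOn hQ hQp t₀ h₀ δ₀ h₁ hw

/-- an elementary abelian subgroup is a section -/
theorem sec_of_elab {G : Type*} [Group G] {p W : ℕ} {D A : Subgroup G} (hA : A ≤ D)
    (hc : ∀ x ∈ A, ∀ y ∈ A, x * y = y * x) (he : ∀ x ∈ A, x ^ p = 1) (hcard : Nat.card A = p ^ W) : Sec p W D := by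
  refine ⟨A, ⊥, hA, bot_le, ?_, ?_, ?_, ?_⟩
  · intro h _ k hk
    rw [Subgroup.mem_bot.1 hk, mul_one, mul_inv_cancel]
    exact Subgroup.one_mem _
  · intro x hx y hy
    rw [hc x hx y hy, mul_inv_cancel]
    exact Subgroup.one_mem _
  · intro x hx
    rw [he x hx]
    exact Subgroup.one_mem _
  · rw [Subgroup.card_bot, mul_one, hcard]

/-- numbers of constituents -/
theorem sum_kappa {ι : Type*} [Fintype ι] (κ : ι → ℕ) {P c : ℕ} (hP : Nat.card ι ≤ P) (hκ : ∀ i, κ i ≤ c) :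
    ∑ i, κ i ≤ P * c := by
  calc ∑ i, κ i ≤ ∑ _i : ι, c := Finset.sum_le_sum fun i _ => hκ i
    _ = Nat.card ι * c := by rw [Finset.sum_const, smul_eq_mul, Finset.card_univ, Nat.card_eq_fintype_card]
    _ ≤ P * c := Nat.mul_le_mul_right _ hP

section

variable {Q : ℤ} {M : ℕ} [NeZero M] {n : ℕ} {G : Type u} [Group G] [Finite G] {R : Rz Q M 2 n G} {S : Subgroup G}
  {𝔐 : Ideal AlgInt} {V : ValuationSubring ℂ}

/-- **The exceptional cases**, abstract. -/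
theorem exc_abs (L : LinData R S) (h𝔐 : IsPModular 2 𝔐) [𝔐.IsPrime] [S.Normal] (hcyc : IsCyclic (G ⧸ S))
    (hQ2 : (Q : ZMod 2) = 1) {m : ℕ} (hm : n ≤ m) (hlab : R.Bij m)
    {B : Set (IrrCharacter G)} (hB : IsPBlock 𝔐 B) {B' : Set (IrrCharacter S)} (hB' : IsPBlock 𝔐 B')
    (hcov : Cov S B B') {χ : IrrCharacter G} (hχ : χ ∈ B) {t : LabZ Q M m n} (ht : R.IsLb χ t)
    (ht' : POnly M 2 t.t) (δ₀ : ZMod M) (h₁ : ∀ δ, 0 < Std.bsz (t.t δ) → SameZ Q M δ₀ δ)
    (hw : Std.bsz (t.t δ₀) = 2 ∨ Std.bsz (t.t δ₀) = 4 ∨ Std.bsz (t.t δ₀) = 8)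
    (hNz : ∀ a : ZMod M, SF Q M 2 t a → ∃ x : G, H624.Sl.Nz 𝔐 (L.ln a) B x)
    (helab : ∀ D : Subgroup G, IsDefectGroup 2 𝔐 B D → ∃ A : Subgroup G, A ≤ D ∧
      (∀ x ∈ A, ∀ y ∈ A, x * y = y * x) ∧ (∀ x ∈ A, x ^ 2 = 1) ∧ Nat.card A = 2 ^ totW Q M 2 t.t)
    (hE1 : Std.bsz (t.t δ₀) = 2 → ∀ D : Subgroup G, IsDefectGroup 2 𝔐 B D → ¬ IsCyclic (D ⊓ S : Subgroup G))
    (hE2 : Std.bsz (t.t δ₀) = 4 → ∀ D : Subgroup G, IsDefectGroup 2 𝔐 B D → ∀ s : ℕ,
      SectionalPRankLE 2 s (D ⊓ S : Subgroup G) → 4 ≤ s)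
    (hE5 : Std.bsz (t.t δ₀) = 4 → 4 ∣ S.index → ∀ D : Subgroup G, IsDefectGroup 2 𝔐 B D → Sec 2 6 D)
    (hE8 : Std.bsz (t.t δ₀) = 8 → 4 ∣ S.index → ∀ D : Subgroup G, IsDefectGroup 2 𝔐 B D → Sec 2 9 D)
    {D' : Subgroup S} (hD' : IsDefectGroup 2 𝔐 B' D') {s : ℕ} (hs : SectionalPRankLE 2 s D') :
    blockRank 2 B' ≤ 2 ^ s := by
  classical
  obtain ⟨V, hV⟩ := exists_above h𝔐
  have : Fact (Nat.Prime 2) := ⟨Nat.prime_two⟩
  have := Fintype.ofFinite (IBr V G)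
  have := Fintype.ofFinite (ibrUnder V B)
  have hgen := exists_SF_gen R.unit t ht'
  obtain ⟨hc1, -, hstab⟩ := H76.GLB.card_family_one Nat.prime_two R.unit hQ2 hm t ht' δ₀ h₁
  -- the descent
  choose O hOne hO hO1 hO2 using H112.Clif.clifford_cyclic (V := V) h𝔐 hV (pKer S 2)
    (isCyclic_quot (le_pKer S 2) hcyc)
  have hdesc := L.desc_SF_kappa h𝔐 hV hcyc (m := m) hB hB' hcov hgen hNz O (fun i _ => hO i)
  have hSF : Nat.card {a : ZMod M // Stab Q M 2 t a} = Nat.card {b : ZMod M // SF Q M 2 t b} :=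
    Nat.card_congr (Equiv.subtypeEquivRight fun a => ⟨fun h => (hstab a h).1, fun h => h.1⟩)
  have hpos : 0 < Nat.card {b : ZMod M // SF Q M 2 t b} := by
    obtain ⟨a, ha, -⟩ := hgen
    have : Nonempty {b : ZMod M // SF Q M 2 t b} := ⟨⟨a, ha⟩⟩
    exact Nat.card_pos
  have h2 : blockRank 2 B' ≤ ∑ i : ibrUnder V B, (O i).card := by
    refine Nat.le_of_mul_le_mul_right ?_ hpos
    refine hdesc.trans ?_
    rw [Finset.sum_mul]
    refine Finset.sum_le_sum fun i _ => ?_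
    rw [mul_comm]
    refine Nat.mul_le_mul_left _ ?_
    rw [← hSF]
    exact L.card_fixing_le h𝔐 hV hcyc hm hlab hB hχ ht i.2
  -- the number of Brauer characters
  have hcardB : Nat.card (ibrUnder V B) ≤ Fintype.card (Nat.Partition (Std.bsz (t.t δ₀))) := by
    rw [← hc1]
    have hT0 : TorZ Q M 1 (0 : ZMod M) := by rw [TorZ, mul_zero]
    have hl0 : L.ln 0 = 1 := orderOf_eq_one_iff.1 ((L.ord 0 hT0).trans addOrderOf_zero)
    have h3 := R.card_fixed_le' h𝔐 hV hm hlab hB hχ ht 0 hT0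
      (by rw [PReg, addOrderOf_zero]; exact Nat.coprime_one_left 2) (L.ln 0) (L.tw 0 hT0)
    rw [hl0] at h3
    refine le_trans (le_of_eq (Nat.card_congr (Equiv.subtypeEquivRight fun i => ?_))) h3
    simp
  -- the numbers of constituents
  have hκ : ∀ i : ibrUnder V B, (O i).card ∣ Std.bsz (t.t δ₀) := fun i =>
    L.card_pKer_dvd h𝔐 hV hcyc hm hlab hB hχ ht ht' i.2 (hO i) δ₀
  have hκ' : ¬ 4 ∣ S.index → ∀ i : ibrUnder V B, (O i).card ≤ 2 := by
    intro h4 i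
    obtain ⟨l, χ', -, hl, ho, ⟨j, hj⟩, -⟩ := exists_fixed_pKer h𝔐 hV S hcyc hB i.2 (hO i)
    have h5 : orderOf l ∣ S.index := by
      refine orderOf_dvd_of_pow_eq_one (MonoidHom.ext fun g => ?_)
      have h6 : g ^ S.index ∈ S := by
        have := QuotientGroup.eq_one_iff (N := S) (g ^ S.index)
        rw [← this, QuotientGroup.mk_pow]
        exact pow_card_eq_one'
      rw [MonoidHom.pow_apply, ← map_pow, hl _ h6]
      rfl
    rw [ho, hj] at h5
    rw [hj]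
    have h6 : j < 2 := by
      by_contra h7
      exact h4 ((pow_dvd_pow 2 (not_lt.1 h7)).trans h5)
    calc 2 ^ j ≤ 2 ^ 1 := Nat.pow_le_pow_right two_pos (by omega)
      _ = 2 := pow_one 2
  -- the defect group
  obtain ⟨P, hP1, hP2⟩ := Rank.exists_inf h𝔐 S hB hB' hcov D' hD'
  have hsP : SectionalPRankLE 2 s (P ⊓ S : Subgroup G) := by
    rw [hP2]
    exact H583.SecRank.sectional_of_mulEquiv hs (D'.equivMapOfInjective _ S.subtype_injective)
  obtain ⟨c1, c2, c3, c4, -, -, c7, c8⟩ := Cfsg.Agent.H38.S4536.card_partition_small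
  rcases hw with hw | hw | hw
  · -- weight two
    have h6 : 2 ≤ s := by
      refine Rank.two_le h𝔐.1 ?_ (hE1 hw P hP1) hsP
      have h7 : IsPGroup 2 P := Cfsg.Agent.Blocks.Basic.isPGroup_of_isDefectGroup hP1
      exact h7.to_le inf_le_left
    rw [hw, c2] at hcardB
    have h7 := sum_kappa (fun i : ibrUnder V B => (O i).card) (c := 2) hcardB
      (fun i => Nat.le_of_dvd two_pos ((hκ i).trans (dvd_of_eq hw)))
    exact (h2.trans h7).trans (le_trans (by norm_num) (Nat.pow_le_pow_right (by norm_num) h6))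
  · -- weight four
    rw [hw, c4] at hcardB
    by_cases h4 : 4 ∣ S.index
    · have h6 : 5 ≤ s := ((hE5 hw h4 P hP1).inf two_pos S hcyc).le one_lt_two hsP
      have h7 := sum_kappa (fun i : ibrUnder V B => (O i).card) (c := 4) hcardB
        (fun i => Nat.le_of_dvd (by norm_num) ((hκ i).trans (dvd_of_eq hw)))
      exact (h2.trans h7).trans (le_trans (by norm_num) (Nat.pow_le_pow_right (by norm_num) h6))
    · have h6 : 4 ≤ s := hE2 hw P hP1 s hsP
      have h7 := sum_kappa (fun i : ibrUnder V B => (O i).card) (c := 2) hcardB (hκ' h4)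
      exact (h2.trans h7).trans (le_trans (by norm_num) (Nat.pow_le_pow_right (by norm_num) h6))
  · -- weight eight
    rw [hw, c8] at hcardB
    by_cases h4 : 4 ∣ S.index
    · have h6 : 8 ≤ s := ((hE8 hw h4 P hP1).inf two_pos S hcyc).le one_lt_two hsP
      have h7 := sum_kappa (fun i : ibrUnder V B => (O i).card) (c := 8) hcardB
        (fun i => Nat.le_of_dvd (by norm_num) ((hκ i).trans (dvd_of_eq hw)))
      exact (h2.trans h7).trans (le_trans (by norm_num) (Nat.pow_le_pow_right (by norm_num) h6))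
    · obtain ⟨A, hA1, hA2, hA3, hA4⟩ := helab P hP1
      rw [totW_only R.unit hQ2 t ht' δ₀ h₁ (by rw [hw]; norm_num), hw] at hA4
      have h6 : 7 ≤ s := ((sec_of_elab hA1 hA2 hA3 hA4).inf two_pos S hcyc).le one_lt_two hsP
      have h7 := sum_kappa (fun i : ibrUnder V B => (O i).card) (c := 2) hcardB (hκ' h4)
      exact (h2.trans h7).trans (le_trans (by norm_num) (Nat.pow_le_pow_right (by norm_num) h6))

end

end Cfsg.Agent.H577.GUX
end

-- part: H666/GU/Prod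
section
/-!
# The defect groups of an outer product of blocks
-/

set_option autoImplicit false
set_option linter.unusedSectionVars false

open Cfsg

namespace Cfsg.Agent.H666.GU

open Cfsg.Agent.H644 Cfsg.Agent.Blocks.Local Cfsg.Agent.H648.Dict Cfsg.Agent.H624.Sl Cfsg.Agent.H466.Sl
open Cfsg.Agent.Characters.Core Cfsg.Agent.H76.GLB

theorem syl_card {Y : Type*} [Group Y] [Finite Y] {p : ℕ} [Fact p.Prime] {C : Subgroup Y} {D : Subgroup Y}
    (P : Sylow p C) (hD : D = (P : Subgroup C).map C.subtype) :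
    D ≤ C ∧ IsPGroup p D ∧ ∃ r : ℕ, ¬ p ∣ r ∧ Nat.card C = Nat.card D * r := by
  subst hD
  refine ⟨Subgroup.map_subtype_le _, P.isPGroup'.map _, (P : Subgroup C).index, P.not_dvd_index, ?_⟩
  rw [← Subgroup.card_mul_index (P : Subgroup C)]
  congr 1
  exact (Nat.card_congr ((P : Subgroup C).equivMapOfInjective _ C.subtype_injective).toEquiv)

theorem exists_sylow {Y : Type*} [Group Y] [Finite Y] {p : ℕ} [hp : Fact p.Prime] {C R : Subgroup Y}
    (hR : R ≤ C) (hRp : IsPGroup p R) {r : ℕ} (hr : ¬ p ∣ r) (hc : Nat.card C = Nat.card R * r) :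
    ∃ P : Sylow p C, R = (P : Subgroup C).map C.subtype := by
  have h1 : Nat.card (R.subgroupOf C) = Nat.card R := Nat.card_congr (Subgroup.subgroupOfEquivOfLe hR).toEquiv
  have h2 : ¬ p ∣ (R.subgroupOf C).index := by
    have h3 := Subgroup.card_mul_index (R.subgroupOf C)
    rw [h1, hc] at h3
    rw [Nat.eq_of_mul_eq_mul_left Nat.card_pos h3]
    exact hr
  refine ⟨hRp.comap_subtype.toSylow h2, ?_⟩
  change R = (R.subgroupOf C).map C.subtype
  rw [Subgroup.subgroupOf_map_subtype, inf_eq_left.2 hR]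

variable {X₁ X₂ G : Type*} [Group X₁] [Finite X₁] [Group X₂] [Finite X₂] [Group G] [Finite G] {p : ℕ} [Fact p.Prime]
  {𝔐 : Ideal AlgInt} {H : Subgroup G} {j : X₁ × X₂ →* G}

theorem isDefectGroup_prodBlk (hM : IsPModular p 𝔐) (hj : Function.Injective j) (hr : j.range = H)
    {b₁ : Set (IrrCharacter X₁)} {b₂ : Set (IrrCharacter X₂)} {D₁ : Subgroup X₁} {D₂ : Subgroup X₂}
    (hD₁ : IsDefectGroup p 𝔐 b₁ D₁) (hD₂ : IsDefectGroup p 𝔐 b₂ D₂) :
    IsDefectGroup p 𝔐 (prodBlk H j b₁ b₂) ((D₁.prod D₂).map (onto j hj H hr).toMonoidHom) := by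
  have hP : 𝔐.IsPrime := isPrime_of_isPModular hM
  have hp : p.Prime := Fact.out
  obtain ⟨g₁, hg₁, P₁, hP₁⟩ := hD₁
  obtain ⟨g₂, hg₂, P₂, hP₂⟩ := hD₂
  obtain ⟨hle₁, hp₁, r₁, hr₁, hc₁⟩ := syl_card P₁ hP₁
  obtain ⟨hle₂, hp₂, r₂, hr₂, hc₂⟩ := syl_card P₂ hP₂
  set φ := onto j hj H hr with hφ
  have hdef : IsDefectClass 𝔐 (prodBlk H j b₁ b₂) (φ (g₁, g₂)) := by
    refine ⟨?_, ?_, ?_⟩
    · rw [blockCoeff_prodBlk j hj H hr]
      exact memLocalRing_mul hg₁.1 hg₂.1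
    · rw [blockCoeff_prodBlk j hj H hr]
      exact not_memLocalIdeal_mul hg₁.1 hg₂.1 hg₁.2.1 hg₂.2.1
    · rw [prodBlk_eq j hj H hr]
      rintro χ ⟨⟨χ₁, χ₂⟩, ⟨h₁, h₂⟩, rfl⟩
      rw [centralChar_outer]
      exact not_memLocalIdeal_mul (memLocalRing_centralChar χ₁ _) (memLocalRing_centralChar χ₂ _)
        (hg₁.2.2 χ₁ h₁) (hg₂.2.2 χ₂ h₂)
  have hCm : Subgroup.centralizer ({φ (g₁, g₂)} : Set H) = ((Subgroup.centralizer ({g₁} : Set X₁)).prod
      (Subgroup.centralizer ({g₂} : Set X₂))).map φ.toMonoidHom := by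
    rw [← map_centralizer, centralizer_prod]
  have hcard : ∀ (A : Subgroup X₁) (B : Subgroup X₂), Nat.card ((A.prod B).map φ.toMonoidHom) =
      Nat.card A * Nat.card B := by
    intro A B
    rw [← Nat.card_prod, ← Nat.card_congr ((A.prod B).equivMapOfInjective φ.toMonoidHom φ.injective).toEquiv]
    exact Nat.card_congr (A.prodEquiv B).toEquiv
  have hRp : IsPGroup p ((D₁.prod D₂).map φ.toMonoidHom) := by
    refine IsPGroup.map ?_ _
    rintro ⟨⟨z, d⟩, hz, hd⟩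
    obtain ⟨a, ha⟩ := hp₁ ⟨z, hz⟩
    obtain ⟨b, hb⟩ := hp₂ ⟨d, hd⟩
    have ha' : z ^ p ^ a = 1 := congrArg Subtype.val ha
    have hb' : d ^ p ^ b = 1 := congrArg Subtype.val hb
    refine ⟨a + b, Subtype.ext (Prod.ext ?_ ?_)⟩
    · change z ^ p ^ (a + b) = 1
      rw [pow_add, pow_mul, ha', one_pow]
    · change d ^ p ^ (a + b) = 1
      rw [pow_add, mul_comm, pow_mul, hb', one_pow]
  have hR : (D₁.prod D₂).map φ.toMonoidHom ≤ Subgroup.centralizer ({φ (g₁, g₂)} : Set H) := by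
    rw [hCm]
    exact Subgroup.map_mono (Subgroup.prod_mono hle₁ hle₂)
  obtain ⟨P, hP'⟩ := exists_sylow (r := r₁ * r₂) hR hRp (fun h => (hp.dvd_mul.1 h).elim hr₁ hr₂) (by
    rw [hCm, hcard, hcard, hc₁, hc₂]
    ring)
  exact ⟨φ (g₁, g₂), hdef, P, hP'⟩

end Cfsg.Agent.H666.GU
end

-- part: H666/GU/Wreath
section
/-!
# Defect groups and an involution swapping two factors
-/

set_option autoImplicit false
set_option linter.unusedSectionVars false

open Cfsg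

namespace Cfsg.Agent.H666.GU

open Cfsg.Agent.H644 Cfsg.Agent.Blocks.Local Cfsg.Agent.H648.Dict Cfsg.Agent.H624.Sl Cfsg.Agent.H466.Sl
open Cfsg.Agent.H76.GLB

section

variable {X Y : Type*} [Group X] [Finite X] [Group Y] [Finite Y] {𝔐 : Ideal AlgInt}

theorem isPBlock_prodBlk {p : ℕ} [Fact p.Prime] (hM : IsPModular p 𝔐) {N : Subgroup Y} {j : X × X →* Y}
    (hj : Function.Injective j) (hr : j.range = N) {b₁ b₂ : Set (IrrCharacter X)} (hb₁ : IsPBlock 𝔐 b₁)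
    (hb₂ : IsPBlock 𝔐 b₂) : IsPBlock 𝔐 (prodBlk N j b₁ b₂) := by
  obtain ⟨χ₁, rfl⟩ := hb₁
  obtain ⟨χ₂, rfl⟩ := hb₂
  obtain ⟨ψ, hψ⟩ := exists_prodChar (H := N) hj hr χ₁ χ₂
  exact ⟨ψ, prodBlk_blockOf hM hj hr χ₁ χ₂ ψ hψ⟩

theorem stabilizes_prodBlk {N : Subgroup Y} {j : X × X →* Y} (hj : Function.Injective j) (hr : j.range = N)
    (t : Y) (ht : t ∈ Subgroup.normalizer (N : Set Y)) (hswap : ∀ x y, t * j (x, y) * t⁻¹ = j (y, x))
    (b₁ : Set (IrrCharacter X)) : StabilizesBlock N (prodBlk N j b₁ b₁) t := by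
  refine ⟨ht, ?_⟩
  rintro χ ⟨χ₁, hχ₁, χ₂, hχ₂, h⟩
  obtain ⟨ψ, hψ⟩ := exists_prodChar (H := N) hj hr χ₂ χ₁
  refine ⟨ψ, ⟨χ₂, hχ₂, χ₁, hχ₁, hψ⟩, ?_⟩
  intro k k' hk
  have h1 : (k : Y) ∈ j.range := by
    rw [hr]
    exact k.2
  obtain ⟨⟨x, y⟩, hxy⟩ := h1
  have h2 : j (y, x) = k' := by rw [hk, ← hxy, hswap]
  rw [h (x, y) k hxy, hψ (y, x) k' h2, mul_comm]

/-- The inner part: `N` is of index two. -/
theorem wreath_in (hM : IsPModular 2 𝔐) (N : Subgroup Y) [hN : N.Normal] (j : X × X →* Y)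
    (hj : Function.Injective j) (hr : j.range = N) (t : Y) (ht : t * t = 1) (htN : t ∉ N)
    (hgen : ∀ y : Y, y ∉ N → ∃ n ∈ N, y = n * t) (hidx : ∃ k : ℕ, N.index = 2 ^ k)
    (hswap : ∀ x y, t * j (x, y) * t⁻¹ = j (y, x)) (z : X) (hz : ∃ k : ℕ, orderOf (j (z, 1)) = 2 ^ k)
    (hC : Subgroup.centralizer ({j (z, 1)} : Set Y) = N) {b₁ : Set (IrrCharacter X)} (hb₁ : IsPBlock 𝔐 b₁)
    {D₁ : Subgroup X} (hD₁ : IsDefectGroup 2 𝔐 b₁ D₁) :
    ∃ b : Set (IrrCharacter Y), IsInducedBlock 𝔐 N (prodBlk N j b₁ b₁) b ∧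
      ∃ P : Subgroup Y, IsDefectGroup 2 𝔐 b P ∧ t ∈ P ∧ ∀ d ∈ D₁, ∀ d' ∈ D₁, j (d, d') ∈ P := by
  classical
  have hMp := isPrime_of_isPModular hM
  have := Fintype.ofFinite Y
  have := Fintype.ofFinite N
  have hb' := isPBlock_prodBlk hM hj hr hb₁ hb₁
  -- the induced block
  set u := j (z, 1) with hu
  have hPg : IsPGroup 2 (Subgroup.zpowers u) := by
    obtain ⟨k, hk⟩ := hz
    refine IsPGroup.of_card (n := k) ?_
    rw [Nat.card_zpowers, hk]
  have hCz : Subgroup.centralizer ((Subgroup.zpowers u : Subgroup Y) : Set Y) = N := by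
    rw [Subgroup.zpowers_eq_closure, Subgroup.centralizer_closure, hC]
  have huN : Subgroup.zpowers u ≤ N := by
    rw [Subgroup.zpowers_le, ← hr]
    exact ⟨_, rfl⟩
  obtain ⟨b, hind⟩ := Cfsg.Agent.S0919.result 2 𝔐 hM (Subgroup.zpowers u) N hPg huN hCz.le (by
    intro n hn
    have h1 : n ∈ Subgroup.centralizer ((Subgroup.zpowers u : Subgroup Y) : Set Y) := hCz ▸ hn
    exact Subgroup.centralizer_le_normalizer _ h1) _ hb'
  refine ⟨b, hind, ?_⟩
  have hb : IsPBlock 𝔐 b := hind.2.1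
  -- covering
  obtain ⟨ξ, hξ⟩ := Blocks.Basic.isPBlock_nonempty hb'
  obtain ⟨χ, hχ, hne⟩ := Cfsg.Agent.S0934.result 2 𝔐 hM N _ b hind ξ hξ
  have hcov : Covers N b (prodBlk N j b₁ b₁) := ⟨χ, hχ, ξ, hξ, hne⟩
  -- the defect group
  have hdef := isDefectGroup_prodBlk (H := N) hM hj hr hD₁ hD₁
  set φ := onto j hj N hr with hφ
  set Q : Subgroup Y := ((D₁.prod D₁).map φ.toMonoidHom).map N.subtype with hQ
  have hQN : Q ≤ N := Subgroup.map_subtype_le _
  have hQs : Q.subgroupOf N = (D₁.prod D₁).map φ.toMonoidHom :=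
    Subgroup.comap_map_eq_self_of_injective N.subtype_injective _
  obtain ⟨P, hP, hPN⟩ := Cfsg.Agent.S4438.result 2 𝔐 hM N (prodBlk N j b₁ b₁) hb' Q hQN
    (by rw [hQs]; exact hdef) b hb ⟨χ, hχ, ξ, hξ, hne⟩
  have hmemQ : ∀ x y : X, j (x, y) ∈ Q ↔ x ∈ D₁ ∧ y ∈ D₁ := by
    intro x y
    constructor
    · rintro ⟨_, ⟨⟨a, b⟩, hab, rfl⟩, h⟩
      have h1 : j (a, b) = j (x, y) := h
      have h2 := hj h1
      rw [Prod.mk.injEq] at h2
      obtain ⟨rfl, rfl⟩ := h2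
      exact ⟨hab.1, hab.2⟩
    · rintro ⟨hx, hy⟩
      exact ⟨φ (x, y), ⟨(x, y), ⟨hx, hy⟩, rfl⟩, rfl⟩
  have hmemP : ∀ x y : X, j (x, y) ∈ P ↔ x ∈ D₁ ∧ y ∈ D₁ := by
    intro x y
    rw [← hmemQ, ← hPN, Subgroup.mem_inf]
    refine ⟨fun h => ⟨h, ?_⟩, fun h => h.1⟩
    rw [← hr]
    exact ⟨_, rfl⟩
  have hPnot : ¬ P ≤ N := by
    intro h
    exact htN (H648.IndexStab.mem_of_stabilizes N hM hidx hb hb' hcov hP h
      (stabilizes_prodBlk hj hr t (by
        rw [Subgroup.normalizer_eq_top_iff.2 hN]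
        exact Subgroup.mem_top t) hswap b₁))
  obtain ⟨g, hgP, hgN⟩ := SetLike.not_le_iff_exists.1 hPnot
  obtain ⟨n, hn, hgn⟩ := hgen g hgN
  rw [← hr] at hn
  obtain ⟨⟨a, c⟩, rfl⟩ := hn
  -- `g * g = j (a * c, c * a)`
  have htinv : t⁻¹ = t := inv_eq_of_mul_eq_one_left ht
  have hgg : g * g = j (a * c, c * a) := by
    have h1 : t * j (a, c) = j (c, a) * t := by
      rw [← hswap a c]
      group
    rw [hgn]
    calc j (a, c) * t * (j (a, c) * t) = j (a, c) * (t * j (a, c)) * t := by group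
      _ = j (a, c) * j (c, a) * (t * t) := by rw [h1]; group
      _ = j (a * c, c * a) := by rw [ht, mul_one, ← map_mul]; rfl
  have hca : c * a ∈ D₁ := ((hmemP _ _).1 (hgg ▸ P.mul_mem hgP hgP)).2
  have hconj : ∀ d ∈ D₁, c * d * c⁻¹ ∈ D₁ := by
    intro d hd
    have h1 : g * j (d, 1) * g⁻¹ ∈ P :=
      P.mul_mem (P.mul_mem hgP ((hmemP _ _).2 ⟨hd, D₁.one_mem⟩)) (P.inv_mem hgP)
    have h2 : g * j (d, 1) * g⁻¹ = j (1, c * d * c⁻¹) := by
      rw [hgn]
      calc j (a, c) * t * j (d, 1) * (j (a, c) * t)⁻¹ = j (a, c) * (t * j (d, 1) * t⁻¹) * (j (a, c))⁻¹ := by group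
        _ = j (1, c * d * c⁻¹) := by
          rw [hswap, ← map_mul, ← map_inv, ← map_mul]
          congr 1
          simp only [_root_.Prod.mk_mul_mk, _root_.mul_one, _root_.Prod.inv_mk, _root_.mul_inv_cancel]
    rw [h2] at h1
    exact ((hmemP _ _).1 h1).2
  have hconj' : ∀ d ∈ D₁, c⁻¹ * d * c ∈ D₁ := by
    have h1 : D₁.map (MulAut.conj c).toMonoidHom = D₁ := by
      refine Subgroup.eq_of_le_of_card_ge ?_ ?_
      · rintro _ ⟨d, hd, rfl⟩
        exact hconj d hd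
      · rw [Nat.card_congr (D₁.equivMapOfInjective _ (MulAut.conj c).injective).symm.toEquiv]
    intro d hd
    rw [← h1] at hd
    obtain ⟨e, he, rfl⟩ := hd
    have h2 : c⁻¹ * (MulAut.conj c).toMonoidHom e * c = e := by
      change c⁻¹ * (c * e * c⁻¹) * c = e
      group
    rw [h2]
    exact he
  -- conjugate by `j (c, 1)`
  refine ⟨P.map (MulAut.conj (j (c, 1))).toMonoidHom, Blocks.Basic.isDefectGroup_conj hP _, ?_, ?_⟩
  · -- `t = j ((c a)⁻¹, 1) * (j (c, 1) * g * j (c, 1)⁻¹)`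
    have h1 : j ((c * a)⁻¹, 1) * (j (c, 1) * g * (j (c, 1))⁻¹) = t := by
      have h2 : t * (j (c, 1))⁻¹ = (j (1, c))⁻¹ * t := by
        have h3 := hswap c 1
        have h4 : t * (j (c, 1))⁻¹ * t⁻¹ = (j (1, c))⁻¹ := by rw [← h3]; group
        rw [← h4]
        group
      rw [hgn]
      calc j ((c * a)⁻¹, 1) * (j (c, 1) * (j (a, c) * t) * (j (c, 1))⁻¹)
          = j ((c * a)⁻¹, 1) * j (c, 1) * j (a, c) * (t * (j (c, 1))⁻¹) := by group
        _ = (j ((c * a)⁻¹, 1) * j (c, 1) * j (a, c) * (j (1, c))⁻¹) * t := by rw [h2]; group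
        _ = t := by
          rw [← map_inv, ← map_mul, ← map_mul, ← map_mul]
          have h5 : (((c * a)⁻¹, 1) : X × X) * (c, 1) * (a, c) * (1, c)⁻¹ = 1 := by
            simp [Prod.ext_iff, mul_assoc]
          rw [h5, map_one, one_mul]
    rw [← h1]
    refine Subgroup.mul_mem _ ?_ ⟨g, hgP, rfl⟩
    refine ⟨j (c⁻¹ * (c * a)⁻¹ * c, 1), (hmemP _ _).2 ⟨hconj' _ (D₁.inv_mem hca), D₁.one_mem⟩, ?_⟩
    change j (c, 1) * j (c⁻¹ * (c * a)⁻¹ * c, 1) * (j (c, 1))⁻¹ = _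
    rw [← map_inv, ← map_mul, ← map_mul]
    congr 1
    simp only [mul_assoc, _root_.mul_inv_rev, _root_.inv_mul_cancel, _root_.mul_one, _root_.Prod.mk_mul_mk, _root_.mul_inv_cancel_left, _root_.Prod.inv_mk, _root_.inv_one]
  · intro d hd d' hd'
    refine ⟨j (c⁻¹ * d * c, d'), (hmemP _ _).2 ⟨hconj' d hd, hd'⟩, ?_⟩
    change j (c, 1) * j (c⁻¹ * d * c, d') * (j (c, 1))⁻¹ = _
    rw [← map_inv, ← map_mul, ← map_mul]
    congr 1
    simp [mul_assoc]

end

end Cfsg.Agent.H666.GU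
end

-- part: H666/GU/WreathOut
section
/-!
# Defect groups and an involution swapping two factors: the outer part
-/

set_option autoImplicit false
set_option linter.unusedSectionVars false

open Cfsg

namespace Cfsg.Agent.H666.GU

open Cfsg.Agent.H644 Cfsg.Agent.Blocks.Local Cfsg.Agent.H648.Dict Cfsg.Agent.H624.Sl Cfsg.Agent.H466.Sl
open Cfsg.Agent.H76.GLB Cfsg.Agent.H662

section

variable {G : Type*} [Group G]

/-- the extension of `L` by an involution normalizing it -/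
def extT (L : Subgroup G) (t : G) (ht : t * t = 1) (hL : ∀ l ∈ L, t * l * t⁻¹ ∈ L) : Subgroup G where
  carrier := {g | g ∈ L ∨ g * t ∈ L}
  one_mem' := Or.inl L.one_mem
  mul_mem' := by
    have hti : t⁻¹ = t := inv_eq_of_mul_eq_one_left ht
    rintro a b (ha | ha) (hb | hb)
    · exact Or.inl (L.mul_mem ha hb)
    · exact Or.inr (by rw [mul_assoc]; exact L.mul_mem ha hb)
    · refine Or.inr ?_
      have h1 : a * b * t = a * t * (t * b * t⁻¹) := by
        rw [hti]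
        calc a * b * t = a * (t * t) * b * t := by rw [ht, mul_one]
          _ = a * t * (t * b * t) := by group
      rw [h1]
      exact L.mul_mem ha (hL b hb)
    · refine Or.inl ?_
      have h1 : a * b = a * t * (t * (b * t) * t⁻¹) := by
        rw [hti]
        calc a * b = a * (t * t) * b * (t * t) := by rw [ht, mul_one, mul_one]
          _ = a * t * (t * (b * t) * t) := by group
      rw [h1]
      exact L.mul_mem ha (hL _ hb)
  inv_mem' := by
    have hti : t⁻¹ = t := inv_eq_of_mul_eq_one_left ht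
    rintro a (ha | ha)
    · exact Or.inl (L.inv_mem ha)
    · refine Or.inr ?_
      have h1 : a⁻¹ * t = t * (a * t)⁻¹ * t⁻¹ := by
        rw [mul_inv_rev, hti]
        calc a⁻¹ * t = (t * t) * a⁻¹ * t := by rw [ht, one_mul]
          _ = t * (t * a⁻¹) * t := by group
      rw [h1]
      exact hL _ (L.inv_mem ha)

end

section

variable {X G : Type*} [Group X] [Finite X] [Group G] [Finite G] {𝔐 : Ideal AlgInt}

/-- **Wreath defect.** -/
theorem wreath_defect (hM : IsPModular 2 𝔐) (L : Subgroup G) (j : X × X →* G)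
    (hj : Function.Injective j) (hr : j.range = L) (t : G) (ht : t * t = 1)
    (hswap : ∀ x y, t * j (x, y) * t⁻¹ = j (y, x)) (z : X) (hz : ∃ k : ℕ, orderOf (j (z, 1)) = 2 ^ k)
    (hC : Subgroup.centralizer ({j (z, 1)} : Set G) = L) {b₁ : Set (IrrCharacter X)} (hb₁ : IsPBlock 𝔐 b₁)
    {D₁ : Subgroup X} (hD₁ : IsDefectGroup 2 𝔐 b₁ D₁) {B : Set (IrrCharacter G)}
    (hind : IsInducedBlock 𝔐 L (prodBlk L j b₁ b₁) B) {D : Subgroup G} (hD : IsDefectGroup 2 𝔐 B D) :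
    ∃ g : G, g * t * g⁻¹ ∈ D ∧ ∀ d ∈ D₁, ∀ d' ∈ D₁, g * j (d, d') * g⁻¹ ∈ D := by
  classical
  have hMp := isPrime_of_isPModular hM
  by_cases htL : t ∈ L
  · -- everything is trivial
    have hX : ∀ x : X, x = 1 := by
      intro x
      rw [← hr] at htL
      obtain ⟨⟨a, b⟩, rfl⟩ := htL
      have h1 := hswap x 1
      rw [← map_inv, ← map_mul, ← map_mul] at h1
      have h2 := congrArg Prod.snd (hj h1)
      simpa using h2.symm
    have ht1 : t = 1 := by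
      rw [← hr] at htL
      obtain ⟨⟨a, b⟩, rfl⟩ := htL
      rw [hX a, hX b]
      exact map_one j
    refine ⟨1, ?_, fun d _ d' _ => ?_⟩
    · rw [ht1]
      simp
    · rw [hX d, hX d']
      have h1 : j (1, 1) = 1 := map_one j
      rw [h1]
      simp
  · have hLt : ∀ l ∈ L, t * l * t⁻¹ ∈ L := by
      intro l hl
      rw [← hr] at hl ⊢
      obtain ⟨⟨a, b⟩, rfl⟩ := hl
      exact ⟨(b, a), (hswap a b).symm⟩
    have hti : t⁻¹ = t := inv_eq_of_mul_eq_one_left ht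
    set H := extT L t ht hLt with hH
    have hLH : L ≤ H := fun l hl => Or.inl hl
    have htH : t ∈ H := Or.inr (by rw [ht]; exact L.one_mem)
    set N : Subgroup H := L.subgroupOf H with hN
    have hmemN : ∀ y : H, y ∈ N ↔ (y : G) ∈ L := fun y => Subgroup.mem_subgroupOf
    have hidx : N.index = 2 := by
      rw [Subgroup.index_eq_two_iff]
      refine ⟨⟨t, htH⟩, fun b => ?_⟩
      rw [hmemN, hmemN]
      change Xor ((b : G) * t ∈ L) ((b : G) ∈ L)
      rcases b.2 with h | h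
      · refine Or.inr ⟨h, fun h' => htL ?_⟩
        have h2 := L.mul_mem (L.inv_mem h) h'
        rwa [← mul_assoc, inv_mul_cancel, one_mul] at h2
      · refine Or.inl ⟨h, fun h' => htL ?_⟩
        have h2 := L.mul_mem (L.inv_mem h') h
        rwa [← mul_assoc, inv_mul_cancel, one_mul] at h2
    have hNn : N.Normal := Subgroup.normal_of_index_eq_two hidx
    have hjH : ∀ x, j x ∈ H := fun x => hLH (hr ▸ ⟨x, rfl⟩)
    let j' : X × X →* H := j.codRestrict H hjH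
    have hj' : Function.Injective j' := fun x y hxy => hj (congrArg Subtype.val hxy)
    have hr' : j'.range = N := by
      ext y
      rw [hmemN, ← hr]
      constructor
      · rintro ⟨x, rfl⟩
        exact ⟨x, rfl⟩
      · rintro ⟨x, hx⟩
        exact ⟨x, Subtype.ext hx⟩
    obtain ⟨b, hb, P, hP, htP, hdP⟩ := wreath_in hM N j' hj' hr' ⟨t, htH⟩ (Subtype.ext ht)
      (fun h => htL ((hmemN _).1 h)) (by
        intro y hy
        refine ⟨y * ⟨t, htH⟩, ?_, ?_⟩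
        · rw [hmemN]
          rcases y.2 with h | h
          · exact absurd ((hmemN _).2 h) hy
          · exact h
        · apply Subtype.ext
          change (y : G) = y * t * t
          rw [mul_assoc, ht, mul_one]) ⟨1, by rw [hidx, pow_one]⟩
      (fun x y => Subtype.ext (hswap x y)) z (by
        obtain ⟨k, hk⟩ := hz
        refine ⟨k, ?_⟩
        rw [← hk, ← Subgroup.orderOf_coe]
        rfl) (by
        ext y
        rw [hmemN, Subgroup.mem_centralizer_singleton_iff, ← hC, Subgroup.mem_centralizer_singleton_iff,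
          Subtype.ext_iff]
        rfl) hb₁ hD₁
    let e : N ≃* L := Subgroup.subgroupOfEquivOfLe hLH
    have he : ∀ x : N, ((e x : L) : G) = ((x : H) : G) := fun x => rfl
    have htr : trB e (prodBlk N j' b₁ b₁) = prodBlk L j b₁ b₁ := by
      ext ξ
      rw [mem_trB]
      constructor
      · rintro ⟨χ₁, h₁, χ₂, h₂, h⟩
        refine ⟨χ₁, h₁, χ₂, h₂, fun x l hl => ?_⟩
        have h3 := h x (e.symm l) (Subtype.ext (by
          change j x = _
          rw [hl]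
          exact (congrArg (fun y : L => (y : G)) (e.apply_symm_apply l)).symm.trans (he _)))
        rw [← h3, tr_apply]
        congr 1
      · rintro ⟨χ₁, h₁, χ₂, h₂, h⟩
        refine ⟨χ₁, h₁, χ₂, h₂, fun x n hn => ?_⟩
        rw [tr_apply]
        refine h x _ ?_
        change j x = ((n : H) : G)
        exact congrArg (fun y : H => (y : G)) hn
    have hindH : IsInducedBlock 𝔐 H b B := induced_of_trans e he hb (by rw [htr]; exact hind)
    have : Fact (Nat.Prime 2) := ⟨Nat.prime_two⟩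
    obtain ⟨E, hE, hPE⟩ := Cfsg.Agent.S0917.result 2 𝔐 hM H b hindH.1 B hindH.2.1 hindH P hP
    obtain ⟨g, rfl⟩ := H662.defectGroup_conj hM hindH.2.1 hE hD
    refine ⟨g, ⟨t, hPE ⟨⟨t, htH⟩, htP, rfl⟩, rfl⟩, fun d hd d' hd' => ?_⟩
    exact ⟨j (d, d'), hPE ⟨j' (d, d'), hdP d hd d' hd', rfl⟩, rfl⟩

end

end Cfsg.Agent.H666.GU
end

-- part: H666/GU/Wr2
section
/-!
# Sections of defect groups and an involution swapping two factors
-/

set_option autoImplicit false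
set_option linter.unusedSectionVars false

open Cfsg

namespace Cfsg.Agent.H666.GU

open Cfsg.Agent.H624.Sl

section

variable {X G : Type*} [Group X] [Group G]

/-- the abelian part of the section -/
def aPart (i : X) : Subgroup (X × X) where
  carrier := {x | ∃ k l : ℤ, x = (i ^ k, i ^ (k + 2 * l))}
  one_mem' := ⟨0, 0, by simp; rfl⟩
  mul_mem' := by
    rintro _ _ ⟨k, l, rfl⟩ ⟨k', l', rfl⟩
    refine ⟨k + k', l + l', ?_⟩
    rw [Prod.mk_mul_mk, ← zpow_add, ← zpow_add]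
    congr 2
    ring
  inv_mem' := by
    rintro _ ⟨k, l, rfl⟩
    refine ⟨-k, -l, ?_⟩
    rw [Prod.inv_mk, ← zpow_neg, ← zpow_neg]
    congr 2
    ring

variable {i : X} {j : X × X →* G} {t : G} (ht : t * t = 1) (hswap : ∀ x y, t * j (x, y) * t⁻¹ = j (y, x))
include ht hswap

theorem aPart_swap : ∀ l ∈ (aPart i).map j, t * l * t⁻¹ ∈ (aPart i).map j := by
  rintro _ ⟨_, ⟨k, l, rfl⟩, rfl⟩
  rw [hswap]
  exact ⟨_, ⟨k + 2 * l, -l, by congr 2; ring⟩, rfl⟩

/-- The section. -/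
theorem sec_three_of [Finite G] [Finite X] (hj : Function.Injective j) (htL : t ∉ j.range) (hi4 : orderOf i = 4) :
    Sec 2 3 (extT ((aPart i).map j) t ht (aPart_swap ht hswap)) := by
  classical
  have hti : t⁻¹ = t := inv_eq_of_mul_eq_one_left ht
  have hi : i ^ (4 : ℤ) = 1 := by
    have h1 := pow_orderOf_eq_one i
    rw [hi4] at h1
    exact_mod_cast h1
  have hred : ∀ a b : ℤ, (4 : ℤ) ∣ a - b → i ^ a = i ^ b := by
    intro a b hab
    obtain ⟨c, hc⟩ := hab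
    have h1 : a = b + 4 * c := by omega
    rw [h1, zpow_add, zpow_mul, hi, one_zpow, mul_one]
  set A := (aPart i).map j with hA
  set e := j (i ^ (2 : ℤ), i ^ (2 : ℤ)) with he
  have hez : ∀ n : ℤ, e ^ n = j (i ^ (2 * n), i ^ (2 * n)) := by
    intro n
    rw [he, ← map_zpow]
    congr 1
    refine Prod.ext ?_ ?_
    · exact (map_zpow (MonoidHom.fst X X) _ n).trans (zpow_mul i 2 n).symm
    · exact (map_zpow (MonoidHom.snd X X) _ n).trans (zpow_mul i 2 n).symm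
  have hK : ∀ n : ℤ, j (i ^ (2 * n), i ^ (2 * n)) ∈ Subgroup.zpowers e := fun n => ⟨n, hez n⟩
  have hcomm : ∀ a ∈ A, ∀ b ∈ A, a * b = b * a := by
    rintro _ ⟨_, ⟨k, l, rfl⟩, rfl⟩ _ ⟨_, ⟨k', l', rfl⟩, rfl⟩
    rw [← map_mul, ← map_mul, Prod.mk_mul_mk, Prod.mk_mul_mk, ← zpow_add, ← zpow_add, ← zpow_add, ← zpow_add]
    congr 3 <;> ring
  have heA : e ∈ A := ⟨_, ⟨2, 0, by simp⟩, rfl⟩
  have hte : t * e * t⁻¹ = e := hswap _ _
  have hce : ∀ h : G, h ∈ extT A t ht (aPart_swap ht hswap) → ∀ n : ℤ, h * e ^ n * h⁻¹ = e ^ n := by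
    intro h hh n
    have hcom : h * e = e * h := by
      rcases hh with hh | hh
      · exact hcomm _ hh _ heA
      · have h1 := hcomm _ hh _ heA
        have h2 : t * e = e * t := by
          calc t * e = t * e * t⁻¹ * t := by group
            _ = e * t := by rw [hte]
        calc h * e = h * t * (t * e) := by rw [mul_assoc h t, ← mul_assoc t t e, ht, one_mul]
          _ = (h * t * e) * t := by rw [h2]; group
          _ = e * (h * t) * t := by rw [h1]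
          _ = e * h := by rw [mul_assoc e, mul_assoc h, ht, mul_one]
    have h3 : Commute h (e ^ n) := (show Commute h e from hcom).zpow_right n
    rw [h3.eq, mul_inv_cancel_right]
  have hc : ∀ a ∈ A, a * (t * a * t⁻¹)⁻¹ ∈ Subgroup.zpowers e := by
    rintro _ ⟨_, ⟨k, l, rfl⟩, rfl⟩
    rw [hswap, ← map_inv, ← map_mul, Prod.inv_mk, Prod.mk_mul_mk, ← zpow_neg, ← zpow_neg, ← zpow_add, ← zpow_add]
    have h1 : i ^ (k + -(k + 2 * l)) = i ^ (2 * l) := hred _ _ ⟨-l, by ring⟩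
    have h2 : k + 2 * l + -k = 2 * l := by ring
    rw [h1, h2]
    exact hK l
  have hmem : ∀ g : G, g ∈ extT A t ht (aPart_swap ht hswap) → g ∈ A ∨ ∃ a ∈ A, g = a * t := by
    rintro g (hg | hg)
    · exact Or.inl hg
    · exact Or.inr ⟨g * t, hg, by rw [mul_assoc, ht, mul_one]⟩
  refine ⟨extT A t ht (aPart_swap ht hswap), Subgroup.zpowers e, le_rfl, ?_, ?_, ?_, ?_, ?_⟩
  · rw [Subgroup.zpowers_le]
    exact Or.inl heA
  · rintro h hh _ ⟨n, rfl⟩
    change h * e ^ n * h⁻¹ ∈ _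
    rw [hce h hh n]
    exact ⟨n, rfl⟩
  · intro x hx y hy
    rcases hmem x hx with hx | ⟨a, ha, rfl⟩
    · rcases hmem y hy with hy | ⟨b, hb, rfl⟩
      · rw [hcomm x hx y hy, mul_inv_cancel]
        exact Subgroup.one_mem _
      · have h1 : x * (b * t) * (b * t * x)⁻¹ = x * b * (t * x * t⁻¹)⁻¹ * b⁻¹ := by group
        have h2 : (t * x * t⁻¹)⁻¹ ∈ A := A.inv_mem (aPart_swap ht hswap x hx)
        rw [h1, mul_assoc x b, hcomm b hb _ h2, ← mul_assoc, mul_inv_cancel_right]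
        exact hc x hx
    · rcases hmem y hy with hy | ⟨b, hb, rfl⟩
      · have h1 : a * t * y * (y * (a * t))⁻¹ = a * (t * y * t⁻¹) * a⁻¹ * y⁻¹ := by group
        have h2 : t * y * t⁻¹ ∈ A := aPart_swap ht hswap y hy
        rw [h1, hcomm a ha _ h2, mul_inv_cancel_right]
        have h3 := (Subgroup.zpowers e).inv_mem (hc y hy)
        rw [mul_inv_rev, inv_inv] at h3
        exact h3
      · have h1 : a * t * (b * t) * (b * t * (a * t))⁻¹ = a * (t * b * t⁻¹) * (t * a * t⁻¹)⁻¹ * b⁻¹ := by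
          group
        have h2 : t * b * t⁻¹ ∈ A := aPart_swap ht hswap b hb
        have h3 : (t * a * t⁻¹)⁻¹ ∈ A := A.inv_mem (aPart_swap ht hswap a ha)
        have h4 : a * (t * b * t⁻¹) * (t * a * t⁻¹)⁻¹ * b⁻¹ =
            (a * (t * a * t⁻¹)⁻¹) * ((t * b * t⁻¹) * b⁻¹) := by
          rw [mul_assoc a, hcomm _ h2 _ h3]
          group
        rw [h1, h4]
        refine Subgroup.mul_mem _ (hc a ha) ?_
        have h5 := (Subgroup.zpowers e).inv_mem (hc b hb)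
        rw [mul_inv_rev, inv_inv] at h5
        exact h5
  · intro x hx
    rcases hmem x hx with hx | ⟨a, ha, rfl⟩
    · obtain ⟨_, ⟨k, l, rfl⟩, rfl⟩ := hx
      have h1 : j (i ^ k, i ^ (k + 2 * l)) ^ 2 = j (i ^ (2 * k), i ^ (2 * k)) := by
        rw [← map_pow, Prod.pow_mk, ← zpow_natCast, ← zpow_natCast, ← zpow_mul, ← zpow_mul]
        congr 2
        · push_cast
          ring_nf
        · exact hred _ _ ⟨l, by push_cast; ring⟩
      rw [h1]
      exact hK k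
    · have h1 : (a * t) ^ 2 = a * (t * a * t⁻¹) := by
        rw [hti, pow_two]
        group
      rw [h1]
      obtain ⟨_, ⟨k, l, rfl⟩, rfl⟩ := ha
      rw [hswap, ← map_mul, Prod.mk_mul_mk, ← zpow_add, ← zpow_add]
      have h2 : k + (k + 2 * l) = 2 * (k + l) := by ring
      have h3 : k + 2 * l + k = 2 * (k + l) := by ring
      rw [h2, h3]
      exact hK _
  · have h1 : Nat.card (Subgroup.zpowers e) = 2 := by
      rw [Nat.card_zpowers, he, orderOf_injective j hj]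
      have h2 : orderOf (i ^ (2 : ℤ)) = 2 := by
        have h3 : i ^ (2 : ℤ) = i ^ 2 := by norm_cast
        rw [h3, orderOf_pow, hi4]
        rfl
      rw [Prod.orderOf, h2]
      rfl
    rw [h1]
    let f : Fin 4 × Fin 2 × Bool → extT A t ht (aPart_swap ht hswap) := fun x =>
      ⟨j (i ^ ((x.1 : ℕ) : ℤ), i ^ (((x.1 : ℕ) : ℤ) + 2 * ((x.2.1 : ℕ) : ℤ))) * (if x.2.2 then t else 1), by
        split_ifs
        · refine Or.inr ?_
          rw [mul_assoc, ht, mul_one]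
          exact ⟨_, ⟨_, _, rfl⟩, rfl⟩
        · rw [mul_one]
          exact Or.inl ⟨_, ⟨_, _, rfl⟩, rfl⟩⟩
    have hf : Function.Injective f := by
      rintro ⟨k, l, b⟩ ⟨k', l', b'⟩ h
      have h2 := congrArg (fun z : extT A t ht (aPart_swap ht hswap) => (z : G)) h
      change j _ * (if b then t else 1) = j _ * (if b' then t else 1) at h2
      have hbb : b = b' := by
        by_contra hne
        apply htL
        rcases b with _ | _ <;> rcases b' with _ | _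
        · exact absurd rfl hne
        · simp only [Bool.false_eq_true, if_false, if_true, mul_one] at h2
          rw [eq_comm, ← eq_inv_mul_iff_mul_eq, ← map_inv, ← map_mul] at h2
          exact ⟨_, h2.symm⟩
        · simp only [Bool.false_eq_true, if_false, if_true, mul_one] at h2
          rw [← eq_inv_mul_iff_mul_eq, ← map_inv, ← map_mul] at h2
          exact ⟨_, h2.symm⟩
        · exact absurd rfl hne
      subst hbb
      have h3 := hj (mul_right_cancel h2)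
      rw [Prod.mk.injEq] at h3
      have hk : k = k' := by
        apply Fin.ext
        have h4 := h3.1
        rw [zpow_natCast, zpow_natCast] at h4
        exact pow_injOn_Iio_orderOf (by rw [hi4]; exact k.2) (by rw [hi4]; exact k'.2) h4
      subst hk
      have hl : l = l' := by
        apply Fin.ext
        have h4 := h3.2
        rw [zpow_add, zpow_add] at h4
        have h5 := mul_left_cancel h4
        have h6 : i ^ (2 * (l : ℕ)) = i ^ (2 * (l' : ℕ)) := by exact_mod_cast h5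
        have h7 := pow_injOn_Iio_orderOf (x := i) (by rw [hi4]; have := l.2; simp; omega)
          (by rw [hi4]; have := l'.2; simp; omega) h6
        omega
      subst hl
      rfl
    have h2 := Nat.card_le_card_of_injective f hf
    have h3 : Nat.card (Fin 4 × Fin 2 × Bool) = 16 := by
      rw [Nat.card_eq_fintype_card]
      rfl
    rw [h3] at h2
    exact h2

end

section

variable {X G : Type*} [Group X] [Finite X] [Group G] [Finite G] {𝔐 : Ideal AlgInt}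

/-- **WR2.** -/
theorem wreath_sec (hM : IsPModular 2 𝔐) (L : Subgroup G) (j : X × X →* G)
    (hj : Function.Injective j) (hr : j.range = L) (t : G) (ht : t * t = 1)
    (hswap : ∀ x y, t * j (x, y) * t⁻¹ = j (y, x)) (z : X) (hz : ∃ k : ℕ, orderOf (j (z, 1)) = 2 ^ k)
    (hC : Subgroup.centralizer ({j (z, 1)} : Set G) = L) {b₁ : Set (IrrCharacter X)} (hb₁ : IsPBlock 𝔐 b₁)
    {B : Set (IrrCharacter G)} (hind : IsInducedBlock 𝔐 L (prodBlk L j b₁ b₁) B) {D : Subgroup G}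
    (hD : IsDefectGroup 2 𝔐 B D) (i : X) (hi : i ∈ Subgroup.center X) (hi4 : orderOf i = 4) : Sec 2 3 D := by
  classical
  have : Fact (Nat.Prime 2) := ⟨Nat.prime_two⟩
  obtain ⟨D₁, hD₁⟩ := H662.exists_defectGroup hM hb₁
  obtain ⟨g, h1, h2⟩ := wreath_defect hM L j hj hr t ht hswap z hz hC hb₁ hD₁ hind hD
  -- `i ∈ D₁`
  have hiD : i ∈ D₁ := by
    refine (Cfsg.Agent.S0912.result 2 𝔐 hM b₁ hb₁ D₁ hD₁) ?_
    have hz : Subgroup.zpowers i ≤ pCore 2 X := by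
      refine le_sSup ⟨⟨fun x hx y => ?_⟩, ?_⟩
      · have h3 : x ∈ Subgroup.center X := (Subgroup.zpowers_le.2 hi) hx
        rw [Subgroup.mem_center_iff.1 h3 y, mul_inv_cancel_right]
        exact hx
      · refine IsPGroup.of_card (n := 2) ?_
        rw [Nat.card_zpowers, hi4]
        norm_num
    exact hz (Subgroup.mem_zpowers i)
  have htL : t ∉ j.range := by
    rintro ⟨⟨a, b⟩, rfl⟩
    have h3 := hswap i 1
    rw [← map_inv, ← map_mul, ← map_mul] at h3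
    have h4 := congrArg Prod.snd (hj h3)
    have h5 : i = 1 := by simpa using h4.symm
    rw [h5, orderOf_one] at hi4
    omega
  have h3 := (sec_three_of ht hswap hj htL hi4).map (MulAut.conj g).toMonoidHom (MulAut.conj g).injective
  refine h3.mono ?_
  rintro _ ⟨x, hx, rfl⟩
  have hA : ∀ a ∈ (aPart i).map j, g * a * g⁻¹ ∈ D := by
    rintro _ ⟨_, ⟨k, l, rfl⟩, rfl⟩
    exact h2 _ (D₁.zpow_mem hiD k) _ (D₁.zpow_mem hiD _)
  change g * x * g⁻¹ ∈ D
  rcases hx with hx | hx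
  · exact hA x hx
  · have h4 := D.mul_mem (hA _ hx) h1
    have h5 : g * (x * t) * g⁻¹ * (g * t * g⁻¹) = g * x * g⁻¹ := by
      calc g * (x * t) * g⁻¹ * (g * t * g⁻¹) = g * x * (t * t) * g⁻¹ := by group
        _ = g * x * g⁻¹ := by rw [ht, mul_one]
    rwa [h5] at h4

end

end Cfsg.Agent.H666.GU
end

-- part: H577/GUX/Split
section
/-!
# HUB S4536 / S4537: the exceptional cases `p = 2` from the splitting of the blocks `Δ ^ w`

* `Split 𝔐 SX S b B` : the block `B` of `G` is induced from the block `b × b` of the centralizer of a `2`-element, which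
  is isomorphic to `X × X`; the two factors are swapped by an involution of `G`;
* `Split.sec_double`, `Split.sec_three`, `Split.four_le` : the defect groups of `B`;
* `exc_tower` : the exceptional cases for a tower of groups.
-/

set_option autoImplicit false
set_option linter.unusedSectionVars false
set_option linter.unusedVariables false

open Cfsg
open scoped ComplexConjugate

namespace Cfsg.Agent.H577.GUX

open Cfsg.Agent.H577.GLB Cfsg.Agent.H577.GLB.Std Cfsg.Agent.H614 Cfsg.Agent.H112.GLB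
open Cfsg.Agent.H657 Cfsg.Agent.H608.BlockRank Cfsg.Agent.Blocks.Basic Cfsg.Agent.Blocks.Local
open Cfsg.Agent.H666.Clif Cfsg.Agent.H666.GU Cfsg.Agent.H624.Sl

/-- The block `B` of `G` is induced from `b × b` on the centralizer `L ≃ X × X` of a `2`-element; the factors are
swapped by an involution. -/
def Split {X G : Type*} [Group X] [Finite X] [Group G] [Finite G] (𝔐 : Ideal AlgInt) (SX : Subgroup X)
    (S : Subgroup G) (b : Set (IrrCharacter X)) (B : Set (IrrCharacter G)) : Prop :=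
  ∃ (L : Subgroup G) (j : X × X →* G) (t : G) (z : X), Function.Injective j ∧ j.range = L ∧ t * t = 1 ∧
    (∀ x y, t * j (x, y) * t⁻¹ = j (y, x)) ∧ (∃ k : ℕ, orderOf (j (z, 1)) = 2 ^ k) ∧
    Subgroup.centralizer ({j (z, 1)} : Set G) = L ∧ IsInducedBlock 𝔐 L (prodBlk L j b b) B ∧
    ∀ x ∈ SX, ∀ y ∈ SX, j (x, y) ∈ S

namespace Split

variable {X G : Type*} [Group X] [Finite X] [Group G] [Finite G] {𝔐 : Ideal AlgInt} {SX : Subgroup X}
  {S : Subgroup G} {b : Set (IrrCharacter X)} {B : Set (IrrCharacter G)}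

/-- the defect groups -/
theorem defect (h : Split 𝔐 SX S b B) (hM : IsPModular 2 𝔐) (hb : IsPBlock 𝔐 b) {D₁ : Subgroup X}
    (hD₁ : IsDefectGroup 2 𝔐 b D₁) {D : Subgroup G} (hD : IsDefectGroup 2 𝔐 B D) :
    ∃ (j : X × X →* G) (g : G), Function.Injective j ∧ (∀ d ∈ D₁, ∀ d' ∈ D₁, g * j (d, d') * g⁻¹ ∈ D) ∧
      ∀ x ∈ SX, ∀ y ∈ SX, j (x, y) ∈ S := by
  obtain ⟨L, j, t, z, hj, hr, ht, hswap, hz, hC, hind, hdet⟩ := h
  obtain ⟨g, -, hg⟩ := wreath_defect hM L j hj hr t ht hswap z hz hC hb hD₁ hind hD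
  exact ⟨j, g, hj, hg, hdet⟩

theorem sec_double (h : Split 𝔐 SX S b B) (hM : IsPModular 2 𝔐) (hb : IsPBlock 𝔐 b) {r : ℕ}
    (hr : ∀ D₁ : Subgroup X, IsDefectGroup 2 𝔐 b D₁ → Sec 2 r D₁) {D : Subgroup G}
    (hD : IsDefectGroup 2 𝔐 B D) : Sec 2 (r + r) D := by
  obtain ⟨D₁, hD₁⟩ := H662.exists_defectGroup hM hb
  obtain ⟨j, g, hj, hg, -⟩ := h.defect hM hb hD₁ hD
  have h1 := (((hr D₁ hD₁).prod (hr D₁ hD₁)).map j hj).map (MulAut.conj g).toMonoidHom (MulAut.conj g).injective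
  refine h1.mono ?_
  rintro _ ⟨_, ⟨⟨d, d'⟩, ⟨h, h'⟩, rfl⟩, rfl⟩
  exact hg d h d' h'

theorem sec_three (h : Split 𝔐 SX S b B) (hM : IsPModular 2 𝔐) (hb : IsPBlock 𝔐 b) {i : X}
    (hi : i ∈ Subgroup.center X) (hi4 : orderOf i = 4) {D : Subgroup G} (hD : IsDefectGroup 2 𝔐 B D) :
    Sec 2 3 D := by
  obtain ⟨L, j, t, z, hj, hr, ht, hswap, hz, hC, hind, -⟩ := h
  exact wreath_sec hM L j hj hr t ht hswap z hz hC hb hind hD i hi hi4

theorem four_le [S.Normal] (h : Split 𝔐 SX S b B) (hM : IsPModular 2 𝔐) (hb : IsPBlock 𝔐 b)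
    (hnc : ∀ D₁ : Subgroup X, IsDefectGroup 2 𝔐 b D₁ → ¬ IsCyclic (D₁ ⊓ SX : Subgroup X)) {D : Subgroup G}
    (hD : IsDefectGroup 2 𝔐 B D) {s : ℕ} (hs : SectionalPRankLE 2 s (D ⊓ S : Subgroup G)) : 4 ≤ s := by
  obtain ⟨D₁, hD₁⟩ := H662.exists_defectGroup hM hb
  obtain ⟨j, g, hj, hg, hdet⟩ := h.defect hM hb hD₁ hD
  have hp : IsPGroup 2 (D₁ ⊓ SX : Subgroup X) :=
    IsPGroup.to_le (Cfsg.Agent.Blocks.Basic.isPGroup_of_isDefectGroup hD₁) inf_le_left
  let f₀ : (D₁ ⊓ SX : Subgroup X) × (D₁ ⊓ SX : Subgroup X) →* G :=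
    (MulAut.conj g).toMonoidHom.comp (j.comp (MonoidHom.prodMap (D₁ ⊓ SX).subtype (D₁ ⊓ SX).subtype))
  have hf₀ : ∀ x, f₀ x = g * j ((x.1 : X), (x.2 : X)) * g⁻¹ := fun x => rfl
  have hmem : ∀ x, f₀ x ∈ D ⊓ S := by
    rintro ⟨⟨x, hx⟩, ⟨y, hy⟩⟩
    rw [hf₀]
    exact ⟨hg x hx.1 y hy.1, Subgroup.Normal.conj_mem inferInstance _ (hdet x hx.2 y hy.2) g⟩
  let f : (D₁ ⊓ SX : Subgroup X) × (D₁ ⊓ SX : Subgroup X) →* (D ⊓ S : Subgroup G) := f₀.codRestrict _ hmem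
  have hf : Function.Injective f := by
    rintro ⟨x, y⟩ ⟨x', y'⟩ hxy
    have h1 : g * j ((x : X), (y : X)) * g⁻¹ = g * j ((x' : X), (y' : X)) * g⁻¹ := congrArg Subtype.val hxy
    have h2 := hj (mul_left_cancel (mul_right_cancel h1))
    rw [Prod.mk.injEq] at h2
    exact Prod.ext (Subtype.ext h2.1) (Subtype.ext h2.2)
  exact H501.GLn.four_le_of_noncyclic hp hp (hnc D₁ hD₁) (hnc D₁ hD₁) f hf hs

end Split

universe u

section tower

variable {Q : ℤ} {M : ℕ} [NeZero M] {N : ℕ} {𝒢 : ℕ → Type u} [∀ n, Group (𝒢 n)] [∀ n, Finite (𝒢 n)]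
  (ℛ : ∀ {n : ℕ}, n ≤ N → Rz Q M 2 n (𝒢 n)) (𝒮 : ∀ n, Subgroup (𝒢 n)) {𝔐 : Ideal AlgInt}

/-- the block `B` of `𝒢 n` has the label `t`, which involves only the orbit of `δ₀`, with multiplicity `w` -/
def HasLab (𝔐 : Ideal AlgInt) (m : ℕ) (δ₀ : ZMod M) (w : ℕ) {n : ℕ} (hn : n ≤ N) (B : Set (IrrCharacter (𝒢 n))) :
    Prop :=
  IsPBlock 𝔐 B ∧ ∃ χ ∈ B, ∃ t : LabZ Q M m n, (ℛ hn).IsLb χ t ∧ POnly M 2 t.t ∧
    (∀ δ, 0 < Std.bsz (t.t δ) → SameZ Q M δ₀ δ) ∧ Std.bsz (t.t δ₀) = w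

/-- the splitting of the blocks of even weight -/
def SplitTower (𝔐 : Ideal AlgInt) (m : ℕ) : Prop :=
  ∀ {n : ℕ} (hn : n ≤ N), n ≤ m → ∀ {B : Set (IrrCharacter (𝒢 n))} (δ₀ : ZMod M) (w : ℕ), 0 < w →
    HasLab (fun {n} => ℛ (n := n)) 𝔐 m δ₀ (2 * w) hn B →
    ∃ (a : ℕ) (ha : a ≤ N) (b : Set (IrrCharacter (𝒢 a))), 0 < a ∧ a ≤ m ∧
      HasLab (fun {n} => ℛ (n := n)) 𝔐 m δ₀ w ha b ∧ Split 𝔐 (𝒮 a) (𝒮 n) b B

variable {ℛ 𝒮}

/-- **The exceptional cases** for a tower of groups. -/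
theorem exc_tower [∀ n, (𝒮 n).Normal] (hcyc : ∀ n, 0 < n → IsCyclic (𝒢 n ⧸ 𝒮 n))
    (ℒ : ∀ {n : ℕ} (hn : n ≤ N), 0 < n → LinData (ℛ hn) (𝒮 n)) (h𝔐 : IsPModular 2 𝔐) [𝔐.IsPrime]
    (hQ2 : (Q : ZMod 2) = 1) {m : ℕ} (hbij : ∀ {n : ℕ} (hn : n ≤ N), n ≤ m → (ℛ hn).Bij m)
    (hone : ∀ {n : ℕ} (hn : n ≤ N), 0 < n → n ≤ m → ∀ {B : Set (IrrCharacter (𝒢 n))}, IsPBlock 𝔐 B →
      ∀ {χ : IrrCharacter (𝒢 n)}, χ ∈ B → ∀ {t : LabZ Q M m n}, (ℛ hn).IsLb χ t →
      ∀ (ψ : IrrCharacter (𝒢 n)) (t' : LabZ Q M m n), (ℛ hn).IsLb ψ t' → SameFam Q M 2 t.t t'.t → ψ ∈ B)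
    (hc4 : ∀ n, 0 < n → 4 ∣ (𝒮 n).index → ∀ a, 0 < a → ∃ i ∈ Subgroup.center (𝒢 a), orderOf i = 4)
    (hsplit : SplitTower (fun {n} => ℛ (n := n)) 𝒮 𝔐 m)
    {n : ℕ} (hn : n ≤ N) (hn0 : 0 < n) (hm : n ≤ m)
    {B : Set (IrrCharacter (𝒢 n))} (hB : IsPBlock 𝔐 B) {B' : Set (IrrCharacter (𝒮 n))} (hB' : IsPBlock 𝔐 B')
    (hcov : Cov (𝒮 n) B B') {χ : IrrCharacter (𝒢 n)} (hχ : χ ∈ B) {t : LabZ Q M m n} (ht : (ℛ hn).IsLb χ t)
    (ht' : POnly M 2 t.t) (δ₀ : ZMod M) (h₁ : ∀ δ, 0 < Std.bsz (t.t δ) → SameZ Q M δ₀ δ)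
    (hw : Std.bsz (t.t δ₀) = 2 ∨ Std.bsz (t.t δ₀) = 4 ∨ Std.bsz (t.t δ₀) = 8)
    (hNz : ∀ a : ZMod M, SF Q M 2 t a → ∃ x : 𝒢 n, H624.Sl.Nz 𝔐 ((ℒ hn hn0).ln a) B x)
    (helab : ∀ D : Subgroup (𝒢 n), IsDefectGroup 2 𝔐 B D → ∃ A : Subgroup (𝒢 n), A ≤ D ∧
      (∀ x ∈ A, ∀ y ∈ A, x * y = y * x) ∧ (∀ x ∈ A, x ^ 2 = 1) ∧ Nat.card A = 2 ^ totW Q M 2 t.t)
    {D' : Subgroup (𝒮 n)} (hD' : IsDefectGroup 2 𝔐 B' D') {s : ℕ} (hs : SectionalPRankLE 2 s D') :
    blockRank 2 B' ≤ 2 ^ s := by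
  classical
  -- weight two: the intersection with `S` is not cyclic
  have two : ∀ {a : ℕ} (ha : a ≤ N), 0 < a → a ≤ m → ∀ {b : Set (IrrCharacter (𝒢 a))} (δ₀ : ZMod M),
      HasLab (fun {n} => ℛ (n := n)) 𝔐 m δ₀ 2 ha b → ∀ D : Subgroup (𝒢 a), IsDefectGroup 2 𝔐 b D →
      ¬ IsCyclic (D ⊓ 𝒮 a : Subgroup (𝒢 a)) := by
    rintro a ha ha0 hma b δ₀ ⟨hb, χ, hχ, t, ht, ht', h₁, hw⟩ D hD
    refine H111.GLB.rz_not_isCyclic_two (ℛ ha) h𝔐 hma (hbij ha hma) hQ2 t ht' δ₀ h₁ hw hb hχ ht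
      (fun ψ t' h1 h2 => hone ha ha0 hma hb hχ ht ψ t' h1 h2) (𝒮 a) (hcyc a ha0) ?_ hD
    intro l hl ho
    obtain ⟨c, hc, rfl⟩ := (ℒ ha ha0).surj l hl
    exact ⟨c, hc, by rwa [(ℒ ha ha0).ord c hc] at ho, (ℒ ha ha0).tw c hc⟩
  -- weight two: the section of rank three
  have three : 4 ∣ (𝒮 n).index → ∀ {a : ℕ} (ha : a ≤ N), 0 < a → a ≤ m → ∀ {b : Set (IrrCharacter (𝒢 a))}
      (δ₀ : ZMod M), HasLab (fun {n} => ℛ (n := n)) 𝔐 m δ₀ 2 ha b → ∀ D : Subgroup (𝒢 a),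
      IsDefectGroup 2 𝔐 b D → Sec 2 3 D := by
    rintro h4 a ha ha0 hma b δ₀ hl D hD
    obtain ⟨c, hc, b', hc0, hmc, hl', hsp⟩ := hsplit ha hma δ₀ 1 one_pos hl
    obtain ⟨i, hi, hi4⟩ := hc4 n hn0 h4 c hc0
    exact hsp.sec_three h𝔐 hl'.1 hi hi4 hD
  have six : 4 ∣ (𝒮 n).index → ∀ {a : ℕ} (ha : a ≤ N), 0 < a → a ≤ m → ∀ {b : Set (IrrCharacter (𝒢 a))}
      (δ₀ : ZMod M), HasLab (fun {n} => ℛ (n := n)) 𝔐 m δ₀ 4 ha b → ∀ D : Subgroup (𝒢 a),
      IsDefectGroup 2 𝔐 b D → Sec 2 6 D := by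
    rintro h4 a ha ha0 hma b δ₀ hl D hD
    obtain ⟨c, hc, b', hc0, hmc, hl', hsp⟩ := hsplit ha hma δ₀ 2 two_pos hl
    exact hsp.sec_double h𝔐 hl'.1 (three h4 hc hc0 hmc δ₀ hl') hD
  refine exc_abs (ℒ hn hn0) h𝔐 (hcyc n hn0) hQ2 hm (hbij hn hm) hB hB' hcov hχ ht ht' δ₀ h₁ hw hNz helab ?_ ?_ ?_ ?_
    hD' hs
  · intro hw D hD
    exact two hn hn0 hm δ₀ ⟨hB, χ, hχ, t, ht, ht', h₁, hw⟩ D hD
  · intro hw D hD s hs
    obtain ⟨c, hc, b', hc0, hmc, hl', hsp⟩ := hsplit hn hm δ₀ 2 two_pos ⟨hB, χ, hχ, t, ht, ht', h₁, hw⟩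
    exact hsp.four_le h𝔐 hl'.1 (two hc hc0 hmc δ₀ hl') hD hs
  · intro hw h4 D hD
    exact six h4 hn hn0 hm δ₀ ⟨hB, χ, hχ, t, ht, ht', h₁, hw⟩ D hD
  · intro hw h4 D hD
    obtain ⟨c, hc, b', hc0, hmc, hl', hsp⟩ := hsplit hn hm δ₀ 4 (by norm_num) ⟨hB, χ, hχ, t, ht, ht', h₁, hw⟩
    obtain ⟨H, K, h1, h2, h3, h4, h5, h6⟩ := hsp.sec_double h𝔐 hl'.1 (six h4 hc hc0 hmc δ₀ hl') hD
    exact ⟨H, K, h1, h2, h3, h4, h5, le_trans (Nat.mul_le_mul_right _
      (Nat.pow_le_pow_right two_pos (by norm_num))) h6⟩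

end tower

end Cfsg.Agent.H577.GUX
end

-- part: H666/GU/Asm
section
/-!
# S4537: assembly

* `hc4U` : if `4` divides the index of `suS F n q` there are central elements of order `4` in `GU a F q`;
* `TLin` : the labels of the linear characters for a tower;
* `su_asm` : the final bound for `SU N F q` from the nonvanishing (`hNz`), the elementary abelian subgroups (`helab`),
  the splitting (`hsplit`) and the blocks of families (`hone`).
-/

set_option autoImplicit false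
set_option linter.unusedSectionVars false

open Cfsg Polynomial
open scoped ComplexConjugate MatrixGroups

namespace Cfsg.Agent.H666.GU

open Cfsg.Agent.H577.GLB Cfsg.Agent.H577.GLB.Std Cfsg.Agent.H614 Cfsg.Agent.H112.GLB
open Cfsg.Agent.H615.GU Cfsg.Agent.H421.GU Cfsg.Agent.H666.Clif Cfsg.Agent.H614.GU Cfsg.Agent.H623.GU
open Cfsg.Agent.H608.BlockRank Cfsg.Agent.Blocks.Local Cfsg.Agent.H614.GLn Cfsg.Agent.H577.GUX

universe u

variable {F : Type u} [Field F] [Fintype F] {K : Type u} [Field K] [Algebra F K] {θ : K →*₀ ℂ} {q N M p : ℕ}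

/-- a scalar of order four -/
theorem hc4U (C : Ctx F θ N M) (hF : Fintype.card F = q ^ 2) {n : ℕ} (hn0 : 0 < n) (h4 : 4 ∣ (suS F n q).index)
    {a : ℕ} (ha : 0 < a) : ∃ i ∈ Subgroup.center (Cfsg.GU a F q), orderOf i = 4 := by
  have hq1 : 4 ∣ q + 1 := by
    rcases Nat.eq_zero_or_pos M with hM | hM
    · exfalso
      have := C.finK
      have h1 := C.card
      rw [hM] at h1
      exact (Nat.card_pos (α := Kˣ)).ne' h1
    · have : NeZero M := ⟨hM.ne'⟩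
      exact h4.trans (index_suS_dvd (natCard_eq hF) (ctxU C hF) hn0)
  have : NeZero a := ⟨ha.ne'⟩
  obtain ⟨g, hg⟩ := IsCyclic.exists_generator (α := Fˣ)
  have ho : orderOf g = q ^ 2 - 1 := by
    rw [orderOf_eq_card_of_forall_mem_zpowers hg, Nat.card_units, natCard_eq hF]
  have hq2 : 2 ≤ q := by
    have h1 : 1 < Fintype.card F := Fintype.one_lt_card
    rw [hF] at h1
    nlinarith only [h1]
  have hfac : q ^ 2 - 1 = (q + 1) * (q - 1) := by
    obtain ⟨r, rfl⟩ : ∃ r, q = r + 1 := ⟨q - 1, by omega⟩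
    have h6 : (r + 1) ^ 2 = r * r + 2 * r + 1 := by ring
    have h5 : (r + 1) ^ 2 - 1 = r * r + 2 * r := by (clear * - h6; omega)
    rw [h5, Nat.add_sub_cancel]
    ring
  obtain ⟨e, he⟩ := hq1
  have he0 : 0 < e := by omega
  have hm0 : e * (q - 1) ≠ 0 := by
    have : 0 < q - 1 := by omega
    positivity
  have hord : orderOf (g ^ (e * (q - 1))) = 4 := by
    have h1 : orderOf g = 4 * (e * (q - 1)) := by rw [ho, hfac, he]; ring
    rw [orderOf_pow' g hm0, h1, Nat.gcd_eq_right (Dvd.intro_left _ rfl)]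
    exact Nat.mul_div_cancel _ (Nat.pos_of_ne_zero hm0)
  set c : Fˣ := g ^ (e * (q - 1)) with hc
  have hc1 : c ^ (q + 1) = 1 := by rw [he, pow_mul, ← hord, pow_orderOf_eq_one, one_pow]
  have hmem : H321.Ker.sc a c ∈ Cfsg.GU a F q := by
    refine H321.Ker.diag_mem_GU (d := fun _ => (c : F)) ?_ (fun _ => ?_)
    · rw [H321.Ker.sc_coe, Matrix.smul_one_eq_diagonal]
    · exact H321.Ker.norm_iff.2 hc1
  refine ⟨⟨H321.Ker.sc a c, hmem⟩, ?_, ?_⟩
  · rw [Subgroup.mem_center_iff]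
    intro x
    apply Subtype.ext
    exact (H321.Ker.sc_comm c (x : GL (Fin a) F)).symm
  · rw [← Subgroup.orderOf_coe]
    have hinj : Function.Injective (Units.map (Matrix.scalar (Fin a) : F →+* Matrix (Fin a) (Fin a) F).toMonoidHom) := by
      refine Units.map_injective ?_
      have : Nonempty (Fin a) := ⟨⟨0, ha⟩⟩
      intro x y hxy
      exact Matrix.scalar_inj.1 hxy
    exact (orderOf_injective _ hinj c).trans hord

variable [NeZero M]

/-- the labels of the linear characters for a tower -/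
noncomputable def TLin (C : Ctx F θ N M) (hF : Fintype.card F = q ^ 2)
    (t : Tow θ (-(q : ℤ)) M N p (fun n => Cfsg.GU n F q)) (ht : ∀ n (hn : n ≤ N), IsTypU q n (t.T n hn))
    {n : ℕ} (hn : n ≤ N) (hn0 : 0 < n) : LinData (t.R n hn) (suS F n q) :=
  guLin (natCard_eq hF) (ctxU C hF) hn hn0 (splU C hn) (ht n hn) (t.hyp n hn)

/-- **The final bound for `SU N F q`.** -/
theorem su_asm (C : Ctx F θ N M) (hF : Fintype.card F = q ^ 2) (hpF : p ≠ ringChar F) (hN0 : 0 < N)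
    (t : Tow θ (-(q : ℤ)) M N p (fun n => Cfsg.GU n F q)) (ht : ∀ n (hn : n ≤ N), IsTypU q n (t.T n hn))
    {𝔐 : Ideal AlgInt} (h𝔐 : IsPModular p 𝔐) [𝔐.IsPrime]
    (hNz : ∀ {B : Set (IrrCharacter (Cfsg.GU N F q))}, IsPBlock 𝔐 B → ∀ {χ : IrrCharacter (Cfsg.GU N F q)},
      χ ∈ B → ∀ {l : LabZ (-(q : ℤ)) M N N}, (t.R N (le_refl N)).IsLb χ l → POnly M p l.t →
      ∀ a : ZMod M, SF (-(q : ℤ)) M p l a → ∃ x : Cfsg.GU N F q,
        H624.Sl.Nz 𝔐 ((TLin C hF t ht (le_refl N) hN0).ln a) B x)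
    (helab : ∀ {B : Set (IrrCharacter (Cfsg.GU N F q))}, IsPBlock 𝔐 B → ∀ {χ : IrrCharacter (Cfsg.GU N F q)},
      χ ∈ B → ∀ {l : LabZ (-(q : ℤ)) M N N}, (t.R N (le_refl N)).IsLb χ l → POnly M p l.t →
      ∀ D : Subgroup (Cfsg.GU N F q), IsDefectGroup p 𝔐 B D → ∃ A : Subgroup (Cfsg.GU N F q), A ≤ D ∧
        (∀ x ∈ A, ∀ y ∈ A, x * y = y * x) ∧ (∀ x ∈ A, x ^ p = 1) ∧
        Nat.card A = p ^ totW (-(q : ℤ)) M p l.t)
    (hone : p = 2 → ∀ {n : ℕ} (hn : n ≤ N), 0 < n → ∀ {B : Set (IrrCharacter (Cfsg.GU n F q))}, IsPBlock 𝔐 B →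
      ∀ {χ : IrrCharacter (Cfsg.GU n F q)}, χ ∈ B → ∀ {l : LabZ (-(q : ℤ)) M N n}, (t.R n hn).IsLb χ l →
      ∀ (ψ : IrrCharacter (Cfsg.GU n F q)) (l' : LabZ (-(q : ℤ)) M N n), (t.R n hn).IsLb ψ l' →
      SameFam (-(q : ℤ)) M p l.t l'.t → ψ ∈ B)
    (hsplit : ∀ (hp2 : p = 2), SplitTower (Q := -(q : ℤ)) (M := M) (𝒢 := fun n => Cfsg.GU n F q)
      (fun {n} (hn : n ≤ N) => (hp2 ▸ t.R n hn : Rz (-(q : ℤ)) M 2 n (Cfsg.GU n F q))) (fun n => suS F n q) 𝔐 N)
    (B : Set (IrrCharacter (Cfsg.SU N F q))) (hB : IsPBlock 𝔐 B) (D : Subgroup (Cfsg.SU N F q))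
    (hD : IsDefectGroup p 𝔐 B D) (s : ℕ) (hs : SectionalPRankLE p s D) : blockRank p B ≤ p ^ s := by
  have := C.finK
  refine su_of_suS (fun B' hB' D' hD' s hs => ?_) B hB D hD s hs
  refine suS_of (natCard_eq hF) hpF (ctxU C hF) (le_refl N) hN0 (splU C (le_refl N)) (ht N (le_refl N))
    (t.hyp N (le_refl N)) h𝔐 (t.bij N N (le_refl N) (le_refl N)) hNz helab ?_ B' hB' D' hD' s hs
  intro B hB B' hB' hcov χ hχ l hl hl' hp2 hQ δ₀ h₁ hw D' hD' s hs
  subst hp2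
  exact exc_tower (ℛ := fun {n} (hn : n ≤ N) => t.R n hn) (𝒮 := fun n => suS F n q)
    (fun n _ => _root_.Cfsg.Agent.H614.GU.isCyclic_quot) (fun {n} hn hn0 => TLin C hF t ht hn hn0) h𝔐 hQ
    (fun {n} hn hm => t.bij n N hn hm) (fun {n} hn hn0 hm {B} hB {χ} hχ {l} hl => hone rfl hn hn0 hB hχ hl)
    (fun n hn0 h4 a ha => hc4U C hF hn0 h4 ha) (hsplit rfl) (le_refl N) hN0 (le_refl N) hB hB' hcov hχ hl hl' δ₀ h₁ hw
    (fun a ha => hNz hB hχ hl hl' a ha) (helab hB hχ hl hl') hD' hs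

end Cfsg.Agent.H666.GU
end

private theorem dce_3509ba7f0ee5 : _root_.True := by
  try have : _root_.True := by simp only [_root_.Cfsg.Agent.H666.GU.extT.congr_simp]
  exact _root_.True.intro
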